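import Cfsg.Prelude.Def_Classical

set_option autoImplicit false

/-!
Point counts for odd dimensional quadratic forms, and signs of semiregular permutations.
-/

namespace CfsgLib.OddOrtho

variable {F : Type*} [Field F] [Fintype F]

/-- A permutation of even order with semiregular non-trivial cycles. -/
theorem sign_of_semiregular {α : Type*} [Fintype α] [DecidableEq α] (σ : Equiv.Perm α) (N : ℕ)
    (hN : Even N) (hN0 : 0 < N) (h1 : σ ^ N = 1) (hfree : ∀ x, σ x ≠ x → ∀ k, 0 < k → k < N → (σ ^ k) x ≠ x) :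
    Equiv.Perm.sign σ = (-1) ^ (σ.support.card / N) ∧ N * (σ.support.card / N) = σ.support.card := by
  have hall : ∀ m ∈ σ.cycleType, m = N := by
    intro m hm
    rw [Equiv.Perm.cycleType_def, Multiset.mem_map] at hm
    obtain ⟨c, hc, rfl⟩ := hm
    rw [Finset.mem_val, Equiv.Perm.mem_cycleFactorsFinset_iff] at hc
    obtain ⟨x, hx⟩ := hc.1.nonempty_support
    have hce : c = σ.cycleOf x :=
      Equiv.Perm.cycle_is_cycleOf hx (Equiv.Perm.mem_cycleFactorsFinset_iff.2 hc)
    have hpow : ∀ k, (c ^ k) x = (σ ^ k) x := fun k => by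
      rw [hce]; exact Equiv.Perm.cycleOf_pow_apply_self σ x k
    have hσx : σ x ≠ x := by rw [← hc.2 x hx]; exact Equiv.Perm.mem_support.1 hx
    have hpos : 0 < c.support.card := Finset.card_pos.2 ⟨x, hx⟩
    have hfix : (σ ^ c.support.card) x = x := by
      rw [← hpow, ← hc.1.orderOf, pow_orderOf_eq_one]; rfl
    have hge : N ≤ c.support.card := by
      by_contra hlt
      exact hfree x hσx _ hpos (not_le.1 hlt) hfix
    refine le_antisymm ?_ hge
    have hdvd : c.support.card ∣ N := by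
      rw [← hc.1.orderOf]
      refine orderOf_dvd_of_pow_eq_one ((hc.1.pow_eq_one_iff' (Equiv.Perm.mem_support.1 hx)).2 ?_)
      rw [hpow, h1]; rfl
    exact Nat.le_of_dvd hN0 hdvd
  have hrep := Multiset.eq_replicate_card.2 hall
  have hsum := σ.sum_cycleType
  rw [hrep, Multiset.sum_replicate, smul_eq_mul] at hsum
  rw [Equiv.Perm.sign_of_cycleType, hrep, Multiset.sum_replicate, Multiset.card_replicate,
    smul_eq_mul, pow_add, (hN.mul_left _).neg_one_pow, one_mul]
  rw [← hsum, Nat.mul_div_cancel _ hN0]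
  exact ⟨rfl, mul_comm _ _⟩

theorem card_mul_eq [DecidableEq F] (c : F) :
    (Nat.card {w : F × F // w.1 * w.2 = c} : ℤ) =
      (Fintype.card F : ℤ) - 1 + if c = 0 then (Fintype.card F : ℤ) else 0 := by
  classical
  rw [Nat.card_congr (Equiv.subtypeProdEquivSigmaSubtype fun x y : F => x * y = c),
    Nat.card_eq_fintype_card, Fintype.card_sigma]
  push_cast
  rw [← Finset.add_sum_erase _ _ (Finset.mem_univ (0 : F))]
  have h0 : (Fintype.card {y : F // (0 : F) * y = c} : ℤ) =
      if c = 0 then (Fintype.card F : ℤ) else 0 := by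
    by_cases hc : c = 0
    · subst hc; simp
    · simp [hc, Ne.symm hc]
  have h1 : ∀ x ∈ Finset.univ.erase (0 : F), (Fintype.card {y : F // x * y = c} : ℤ) = 1 := by
    intro x hx
    have hx0 : x ≠ 0 := Finset.ne_of_mem_erase hx
    norm_cast
    refine Fintype.card_eq_one_iff.2 ⟨⟨x⁻¹ * c, by rw [mul_inv_cancel_left₀ hx0]⟩, fun y => ?_⟩
    apply Subtype.ext
    show (y : F) = x⁻¹ * c
    exact (eq_inv_mul_iff_mul_eq₀ hx0).2 y.2
  rw [h0, Finset.sum_congr rfl h1, Finset.sum_const, Finset.card_erase_of_mem (Finset.mem_univ _),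
    Finset.card_univ, nsmul_eq_mul, mul_one, Nat.cast_sub Fintype.card_pos, Nat.cast_one]
  ring

theorem card_add_mul {α : Type*} [Fintype α] (P : α → F) (c : F) :
    (Nat.card {w : α × (F × F) // P w.1 + w.2.1 * w.2.2 = c} : ℤ) =
      (Fintype.card α : ℤ) * ((Fintype.card F : ℤ) - 1) +
        (Fintype.card F : ℤ) * (Nat.card {a : α // P a = c} : ℤ) := by
  classical
  rw [Nat.card_congr (Equiv.subtypeProdEquivSigmaSubtype
    fun (a : α) (w : F × F) => P a + w.1 * w.2 = c), Nat.card_eq_fintype_card, Fintype.card_sigma]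
  push_cast
  have : ∀ a : α, (Fintype.card {w : F × F // P a + w.1 * w.2 = c} : ℤ) =
      (Fintype.card F : ℤ) - 1 + if P a = c then (Fintype.card F : ℤ) else 0 := by
    intro a
    rw [← Nat.card_eq_fintype_card, Nat.card_congr (Equiv.subtypeEquivRight
      (q := fun w : F × F => w.1 * w.2 = c - P a) fun w => by rw [eq_sub_iff_add_eq, add_comm]),
      card_mul_eq]
    simp only [sub_eq_zero, eq_comm]
  simp only [this, Finset.sum_add_distrib, Finset.sum_const, Finset.card_univ, nsmul_eq_mul]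
  rw [← Finset.sum_filter, Finset.sum_const, nsmul_eq_mul, Nat.card_eq_fintype_card,
    Fintype.card_subtype]
  ring

theorem card_sq_eq (h2 : (2 : F) ≠ 0) (a c : F) (ha : a ≠ 0) (hc : c ≠ 0) :
    ∃ η : ℤ, (η = 1 ∨ η = -1) ∧ (Nat.card {t : F // a * t ^ 2 = c} : ℤ) = 1 + η := by
  classical
  by_cases h : ∃ t, a * t ^ 2 = c
  · obtain ⟨t, ht⟩ := h
    have ht0 : t ≠ 0 := by rintro rfl; simp at ht; exact hc ht.symm
    refine ⟨1, Or.inl rfl, ?_⟩
    have : {x : F | a * x ^ 2 = c} = {t, -t} := by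
      ext x
      simp only [Set.mem_ofPred_eq, Set.mem_insert_iff, Set.mem_singleton_iff, ← ht,
        mul_right_inj' ha, sq_eq_sq_iff_eq_or_eq_neg]
    have hne : t ≠ -t := fun e => ht0 ((mul_eq_zero.1 (by linear_combination e :
      (2 : F) * t = 0)).resolve_left h2)
    rw [show Nat.card {t : F // a * t ^ 2 = c} = Set.ncard {x : F | a * x ^ 2 = c} from
      (Nat.card_coe_set_eq _), this, Set.ncard_pair hne]
    norm_num
  · have : IsEmpty {t : F // a * t ^ 2 = c} := ⟨fun t => h ⟨t, t.2⟩⟩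
    exact ⟨-1, Or.inr rfl, by simp⟩

/-- Solutions of `a t² + x y = c`. -/
theorem card_ternary (h2 : (2 : F) ≠ 0) (a c : F) (ha : a ≠ 0) (hc : c ≠ 0) :
    ∃ η : ℤ, (η = 1 ∨ η = -1) ∧ (Nat.card {w : F × (F × F) // a * w.1 ^ 2 + w.2.1 * w.2.2 = c} : ℤ) =
      (Fintype.card F : ℤ) ^ 2 + η * (Fintype.card F : ℤ) := by
  obtain ⟨η, hη, h⟩ := card_sq_eq h2 a c ha hc
  exact ⟨η, hη, by rw [card_add_mul (fun t => a * t ^ 2) c, h]; ring⟩

/-- Peel one hyperbolic pair. -/
def peel (m : ℕ) (F : Type*) :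
    (Unit ⊕ (Fin (m + 1) ⊕ Fin (m + 1)) → F) ≃ (Unit ⊕ (Fin m ⊕ Fin m) → F) × (F × F) where
  toFun v := (Sum.elim (fun _ => v (.inl ())) (Sum.elim (fun i => v (.inr (.inl i.succ)))
      fun i => v (.inr (.inr i.succ))), (v (.inr (.inl 0)), v (.inr (.inr 0))))
  invFun w := Sum.elim (fun _ => w.1 (.inl ()))
    (Sum.elim (Fin.cons w.2.1 fun i => w.1 (.inr (.inl i)))
      (Fin.cons w.2.2 fun i => w.1 (.inr (.inr i))))
  left_inv v := by
    funext i
    rcases i with u | i | i
    · rfl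
    · refine Fin.cases ?_ (fun j => ?_) i <;> simp
    · refine Fin.cases ?_ (fun j => ?_) i <;> simp
  right_inv w := by
    refine Prod.ext (funext fun i => ?_) (Prod.ext rfl rfl)
    rcases i with u | i | i <;> simp

theorem card_quadFormOdd (h2 : (2 : F) ≠ 0) (c : F) (hc : c ≠ 0) (m : ℕ) :
    ∃ η : ℤ, (η = 1 ∨ η = -1) ∧
      (Nat.card {v : Unit ⊕ (Fin m ⊕ Fin m) → F // Cfsg.quadFormOdd m F v = c} : ℤ) =
        (Fintype.card F : ℤ) ^ (2 * m) + η * (Fintype.card F : ℤ) ^ m := by
  obtain ⟨η, hη, h⟩ := card_sq_eq h2 1 c one_ne_zero hc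
  refine ⟨η, hη, ?_⟩
  induction m with
  | zero =>
    simp only [Nat.mul_zero, pow_zero, mul_one]
    rw [← h, Nat.card_congr (Equiv.subtypeEquiv
      (show (Unit ⊕ (Fin 0 ⊕ Fin 0) → F) ≃ F from
        ⟨fun v => v (.inl ()), fun t _ => t, fun v => funext fun i => by
          rcases i with u | i | i
          · rfl
          · exact i.elim0
          · exact i.elim0, fun t => rfl⟩) (q := fun t : F => 1 * t ^ 2 = c) fun v => by
        simp [Cfsg.quadFormOdd])]
  | succ m ih =>
    rw [Nat.card_congr (Equiv.subtypeEquiv (peel m F)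
      (q := fun w => Cfsg.quadFormOdd m F w.1 + w.2.1 * w.2.2 = c) fun v => by
        simp [Cfsg.quadFormOdd, peel, Fin.sum_univ_succ]
        constructor <;> intro h <;> linear_combination h), card_add_mul, ih]
    simp only [Fintype.card_pi, Finset.prod_const, Finset.card_univ, Fintype.card_sum,
      Fintype.card_unit, Fintype.card_fin, Nat.cast_pow]
    ring

end CfsgLib.OddOrtho
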