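import Cfsg.Agent.Lib.FormRep.Adj
import Cfsg.Agent.Lib.FormRep.Roots

set_option autoImplicit false

/-!
Isometries of order `q ^ (n - 1) + 1` centralising a unipotent in odd orthogonal groups.
-/

namespace CfsgLib.OddOrtho

open Polynomial Matrix CfsgLib.FormRep

variable {F : Type*} [Field F] {ι : Type*} [Fintype ι] [DecidableEq ι]

/-- The adjoint for a symmetric Gram matrix. -/
noncomputable def adjO (G : Matrix ι ι F) (hG : IsUnit G.det) (hs : Gᵀ = G) : Adj F ι where
  σ := RingEquiv.refl F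
  σσ _ := rfl
  ad A := G⁻¹ * Aᵀ * G
  ad_add A B := by simp [mul_add, add_mul]
  ad_smul c A := by simp [Matrix.smul_mul, Matrix.mul_smul]
  ad_mul A B := by
    simp only [Matrix.transpose_mul, mul_assoc]
    rw [← mul_assoc G G⁻¹, Matrix.mul_nonsing_inv G hG, one_mul]
  ad_ad A := by
    rw [Matrix.transpose_mul, Matrix.transpose_mul, Matrix.transpose_transpose,
      Matrix.transpose_nonsing_inv, hs, ← mul_assoc, ← mul_assoc, Matrix.nonsing_inv_mul G hG,
      one_mul, mul_assoc, Matrix.nonsing_inv_mul G hG, mul_one]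
  charpoly_ad A := by
    obtain ⟨u, rfl⟩ := (Matrix.isUnit_iff_isUnit_det G).2 hG
    have h := Matrix.charpoly_units_conj' u Aᵀ
    rw [Matrix.charpoly_transpose] at h
    exact h.trans (Polynomial.map_id).symm

theorem isom_pair {G : Matrix ι ι F} {hG : IsUnit G.det} {hs : Gᵀ = G} {A : Matrix ι ι F}
    (x y : ι → F) : (A *ᵥ x) ⬝ᵥ (G *ᵥ y) = x ⬝ᵥ (G *ᵥ ((adjO G hG hs).ad A *ᵥ y)) := by
  show _ = x ⬝ᵥ (G *ᵥ ((G⁻¹ * Aᵀ * G) *ᵥ y))
  rw [Matrix.mulVec_mulVec, ← mul_assoc, ← mul_assoc, Matrix.mul_nonsing_inv G hG, one_mul,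
    ← Matrix.mulVec_mulVec, Matrix.dotProduct_mulVec x Aᵀ, Matrix.vecMul_transpose]

variable [Fintype F]

omit [Fintype ι] [DecidableEq ι] in
theorem odd_card (h2 : (2 : F) ≠ 0) : Fintype.card F % 2 = 1 :=
  FiniteField.odd_card_of_char_ne_two fun h => h2 (by
    have := CharP.cast_eq_zero F (ringChar F)
    rw [h] at this
    exact_mod_cast this)

/-- A bound on exponents of self-dual squarefree polynomials without roots `±1`. -/
theorem exists_exponent (M : Adj F ι) (hσ : ∀ c, M.σ c = c) (h2 : (2 : F) ≠ 0) (h : F[X])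
    (hm : h.Monic) (hsq : Squarefree h) (h0 : h.coeff 0 ≠ 0) (h1 : h.eval 1 ≠ 0)
    (hn1 : h.eval (-1) ≠ 0) (hcr : Associated (M.cr h) h) :
    ∃ L k : ℕ, h.natDegree = 2 * k ∧ 2 ∣ L ∧ 0 < L ∧ h ∣ X ^ L - 1 ∧
      ((h = 1 ∧ L = 2) ∨ (Irreducible h ∧ L = Fintype.card F ^ k + 1) ∨
        L < Fintype.card F ^ k + 1) := by
  classical
  induction hd : h.natDegree using Nat.strong_induction_on generalizing h with
  | _ d ih =>
  subst hd
  set q := Fintype.card F with hq
  have hq2 : q % 2 = 1 := odd_card h2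
  have hq3 : 3 ≤ q := by have := Fintype.one_lt_card (α := F); omega
  by_cases hu : IsUnit h
  · rw [hm.isUnit_iff.1 hu] at *
    exact ⟨2, 0, by simp, dvd_rfl, two_pos, one_dvd _, Or.inl ⟨rfl, rfl⟩⟩
  obtain ⟨f, hfm, hfi, hfd⟩ := Polynomial.exists_monic_irreducible_factor h hu
  have hf0 : f.coeff 0 ≠ 0 := fun e => h0 (by
    obtain ⟨r, hr⟩ := hfd; rw [hr, mul_coeff_zero, e, zero_mul])
  set g := normalize (M.cr f) with hgdef
  have hga : Associated g (M.cr f) := normalize_associated _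
  have hgi : Irreducible g := hga.symm.irreducible (M.cr_irreducible hfi hf0)
  have hgm : g.Monic := monic_normalize (M.cr_ne_zero hfi.ne_zero)
  have hgd : g ∣ h := by
    obtain ⟨r, hr⟩ := hfd
    refine hga.dvd.trans ((Dvd.intro (M.cr r) ?_).trans hcr.dvd)
    rw [hr, M.cr_mul]
  have hdeg : g.natDegree = f.natDegree := by
    rw [natDegree_eq_of_degree_eq (degree_eq_degree_of_associated hga), M.natDegree_cr hf0]
  have hcrg : Associated (M.cr g) f := by
    have := M.cr_associated hga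
    rwa [M.cr_cr hf0] at this
  have := Fact.mk hfi
  have : Module.Finite F (AdjoinRoot f) := (AdjoinRoot.powerBasis hfi.ne_zero).finite
  have : Finite (AdjoinRoot f) := Module.finite_of_finite F
  obtain ⟨h₁, L₁, k₁, hm₁, hd₁, hcr₁, hdeg₁, hk₁, heven₁, hpos₁, hdvd₁, hL₁⟩ :
      ∃ (h₁ : F[X]) (L₁ k₁ : ℕ), h₁.Monic ∧ h₁ ∣ h ∧ Associated (M.cr h₁) h₁ ∧
      h₁.natDegree = 2 * k₁ ∧ 1 ≤ k₁ ∧ 2 ∣ L₁ ∧ 0 < L₁ ∧ h₁ ∣ X ^ L₁ - 1 ∧
      ((Irreducible h₁ ∧ L₁ = q ^ k₁ + 1) ∨ L₁ < q ^ k₁ + 1) := by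
    by_cases hgf : g = f
    · let sh : M.Shape :=
        ⟨f, f, g, hfm, hgm, hfi, hgi, hf0, hga, hdeg, Or.inl ⟨hgf, rfl⟩⟩
      rcases sh.symplectic_root hgf hσ (x := AdjoinRoot.root f)
        (by rw [AdjoinRoot.aeval_eq, AdjoinRoot.mk_self]) with ⟨hd1, hxx⟩ | ⟨k, hk, hroot⟩
      · exfalso
        have hd : f ∣ X * X - 1 := AdjoinRoot.mk_eq_zero.1 (by
          rw [map_sub, map_mul, AdjoinRoot.mk_X, map_one, hxx, sub_self])
        rw [show (X * X - 1 : F[X]) = (X - C 1) * (X - C (-1)) by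
          rw [map_neg, map_one]; ring] at hd
        rcases hfi.prime.dvd_or_dvd hd with hd | hd
        · refine h1 (eval_eq_zero_of_dvd_of_eval_eq_zero hfd ?_)
          rw [eq_of_monic_of_associated hfm (monic_X_sub_C 1)
            (hfi.associated_of_dvd (irreducible_X_sub_C 1) hd)]
          simp
        · refine hn1 (eval_eq_zero_of_dvd_of_eval_eq_zero hfd ?_)
          rw [eq_of_monic_of_associated hfm (monic_X_sub_C (-1))
            (hfi.associated_of_dvd (irreducible_X_sub_C (-1)) hd)]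
          simp
      · change f.natDegree = 2 * k at hk
        have hr : AdjoinRoot.root f ^ q ^ k * AdjoinRoot.root f = 1 := by
          simpa using hroot 1 odd_one
        refine ⟨f, q ^ k + 1, k, hfm, hfd, (hga.symm.trans (hgf ▸ Associated.refl g)), hk, ?_, ?_,
          Nat.succ_pos _, ?_, Or.inl ⟨hfi, rfl⟩⟩
        · have := hfi.natDegree_pos; omega
        · refine Nat.dvd_of_mod_eq_zero ?_
          rw [Nat.add_mod, Nat.pow_mod, hq2]; simp
        · refine AdjoinRoot.mk_eq_zero.1 ?_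
          rw [map_sub, map_pow, AdjoinRoot.mk_X, map_one, pow_succ, hr, sub_self]
    · have hcop : IsCoprime f g := (hfi.coprime_iff_not_dvd).2 fun hdd =>
        hgf (eq_of_monic_of_associated hgm hfm (hfi.associated_of_dvd hgi hdd).symm)
      set d := f.natDegree
      have hd0 : 0 < d := hfi.natDegree_pos
      have hXd : ∀ e : F[X], Irreducible e → e.coeff 0 ≠ 0 → e.natDegree = d →
          e ∣ X ^ (q ^ d - 1) - 1 := by
        intro e he he0 hed
        have h3 := (he.natDegree_dvd_iff_dvd_X_pow_card_pow_sub_X (n := d)).1 (by rw [hed])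
        rw [Nat.card_eq_fintype_card, ← hq] at h3
        have hp : 0 < q ^ d := pow_pos (by omega) d
        rw [show (X ^ q ^ d - X : F[X]) = X * (X ^ (q ^ d - 1) - 1) by
          rw [mul_sub, mul_one, ← pow_succ', Nat.sub_add_cancel hp]] at h3
        refine (he.prime.dvd_or_dvd h3).resolve_left fun hX => he0 ?_
        have := (he.associated_of_dvd irreducible_X hX).symm.dvd
        exact X_dvd_iff.1 this
      have hg0 : g.coeff 0 ≠ 0 := fun e => h0 (by
        obtain ⟨r, hr⟩ := hgd; rw [hr, mul_coeff_zero, e, zero_mul])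
      refine ⟨f * g, q ^ d - 1, d, hfm.mul hgm, hcop.mul_dvd hfd hgd, ?_, ?_, hd0, ?_, ?_,
        hcop.mul_dvd (hXd f hfi hf0 rfl) (hXd g hgi hg0 hdeg), Or.inr (by omega)⟩
      · rw [M.cr_mul, mul_comm f g]
        exact hga.symm.mul_mul hcrg
      · rw [hfm.natDegree_mul hgm, hdeg, two_mul]
      · have : q ^ d % 2 = 1 := by rw [Nat.pow_mod, hq2]; simp
        omega
      · have := Nat.le_self_pow hd0.ne' q
        omega
  obtain ⟨h', hh'⟩ := hd₁
  have hm' : h'.Monic := hm₁.of_mul_monic_left (hh' ▸ hm)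
  have hdd : h.natDegree = h₁.natDegree + h'.natDegree := by rw [hh', hm₁.natDegree_mul hm']
  have hcr' : Associated (M.cr h') h' := by
    have h3 : Associated (h₁ * h') (h₁ * M.cr h') := by
      rw [← hh']
      refine hcr.symm.trans ?_
      rw [hh', M.cr_mul]
      exact hcr₁.mul_right _
    exact (Associated.of_mul_left h3 (Associated.refl h₁) hm₁.ne_zero).symm
  obtain ⟨L', k', hk', heven', hpos', hdvd', hL'⟩ := ih h'.natDegree (by omega) h' hm'
    (hsq.squarefree_of_dvd (Dvd.intro_left _ hh'.symm))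
    (fun e => h0 (by rw [hh', mul_coeff_zero, e, mul_zero]))
    (fun e => h1 (by rw [hh', eval_mul, e, mul_zero]))
    (fun e => hn1 (by rw [hh', eval_mul, e, mul_zero])) hcr' rfl
  rcases hL' with ⟨rfl, rfl⟩ | hL'
  · rw [mul_one] at hh'
    rw [hh']
    exact ⟨L₁, k₁, hdeg₁, heven₁, hpos₁, hdvd₁, Or.inr hL₁⟩
  have hk'pos : 1 ≤ k' := by
    by_contra hk0
    have hk00 : k' = 0 := by omega
    subst hk00
    rw [pow_zero] at hL'
    rcases hL' with ⟨hi, -⟩ | hlt
    · have := hi.natDegree_pos; omega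
    · omega
  refine ⟨Nat.lcm L₁ L', k₁ + k', by rw [hdd, hdeg₁, hk']; ring, heven₁.trans (Nat.dvd_lcm_left _ _),
    Nat.lcm_pos hpos₁ hpos', ?_, Or.inr (Or.inr ?_)⟩
  · rw [hh']
    have hcop : IsCoprime h₁ h' :=
      IsRelPrime.isCoprime fun e e1 e2 => hsq e (hh' ▸ mul_dvd_mul e1 e2)
    refine hcop.mul_dvd (hdvd₁.trans ?_) (hdvd'.trans ?_)
    · obtain ⟨c, hc⟩ := Nat.dvd_lcm_left L₁ L'
      rw [hc, pow_mul]
      simpa using sub_dvd_pow_sub_pow ((X : F[X]) ^ L₁) 1 c
    · obtain ⟨c, hc⟩ := Nat.dvd_lcm_right L₁ L'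
      rw [hc, pow_mul]
      simpa using sub_dvd_pow_sub_pow ((X : F[X]) ^ L') 1 c
  have hgcd : 2 ≤ Nat.gcd L₁ L' :=
    Nat.le_of_dvd (Nat.gcd_pos_of_pos_left _ hpos₁) (Nat.dvd_gcd heven₁ heven')
  have hb₁ : L₁ ≤ q ^ k₁ + 1 := by rcases hL₁ with ⟨-, h3⟩ | h3 <;> omega
  have hb' : L' ≤ q ^ k' + 1 := by rcases hL' with ⟨-, h3⟩ | h3 <;> omega
  have hprod := Nat.gcd_mul_lcm L₁ L'
  have hmul : 2 * Nat.lcm L₁ L' ≤ (q ^ k₁ + 1) * (q ^ k' + 1) := by
    calc 2 * Nat.lcm L₁ L' ≤ Nat.gcd L₁ L' * Nat.lcm L₁ L' := Nat.mul_le_mul_right _ hgcd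
      _ = L₁ * L' := hprod
      _ ≤ _ := Nat.mul_le_mul hb₁ hb'
  have h3a : 3 ≤ q ^ k₁ := hq3.trans (Nat.le_self_pow (by omega) q)
  have h3b : 3 ≤ q ^ k' := hq3.trans (Nat.le_self_pow (by omega) q)
  rw [pow_add]
  nlinarith

omit [Fintype F] in
/-- An isometry with a nilpotent perturbation non-zero on a nondegenerate `±1` eigenspace. -/
theorem three_le_finrank {G : Matrix ι ι F} {hG : IsUnit G.det} {hs : Gᵀ = G} (h2 : (2 : F) ≠ 0)
    {U : Matrix ι ι F} (hU : (adjO G hG hs).ad U * U = 1) (hnil : IsNilpotent (U - 1))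
    (W : Submodule F (ι → F)) (hW : ∀ x ∈ W, (U - 1) *ᵥ x ∈ W)
    (hnd : ∀ x ∈ W, (∀ y ∈ W, x ⬝ᵥ (G *ᵥ y) = 0) → x = 0)
    (hne : ∃ x ∈ W, (U - 1) *ᵥ x ≠ 0) : 3 ≤ Module.finrank F W := by
  classical
  obtain ⟨w, hw, hw1⟩ := hne
  set N := U - 1 with hN
  set v := N *ᵥ w with hv
  obtain ⟨J, hJ⟩ := hnil
  have hkill : ∀ z, z ≠ 0 → ∀ c : F, N *ᵥ z = c • z → c = 0 := by
    intro z hz c hc
    have hk : ∀ k, (N ^ k) *ᵥ z = c ^ k • z := fun k => by
      induction k with
      | zero => simp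
      | succ k ih => rw [pow_succ, ← Matrix.mulVec_mulVec, hc, Matrix.mulVec_smul, ih, smul_smul,
          ← pow_succ']
    have h3 := hk J
    rw [hJ, Matrix.zero_mulVec] at h3
    exact eq_zero_of_pow_eq_zero ((smul_eq_zero.1 h3.symm).resolve_right hz)
  have hvW : v ∈ W := hW w hw
  have hli : LinearIndependent F ![(⟨v, hvW⟩ : W), ⟨w, hw⟩] := by
    rw [LinearIndependent.pair_iff]
    intro a b hab
    have h' : a • v + b • w = 0 := congrArg Subtype.val hab
    by_cases hb : b = 0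
    · subst hb
      rw [zero_smul, add_zero] at h'
      exact ⟨(smul_eq_zero.1 h').resolve_right hw1, rfl⟩
    · exfalso
      have hw0 : w ≠ 0 := fun e => hw1 (by rw [hv, e, Matrix.mulVec_zero])
      by_cases ha : a = 0
      · subst ha
        rw [zero_smul, zero_add] at h'
        exact hw0 ((smul_eq_zero.1 h').resolve_left hb)
      · have h3 : N *ᵥ w = (-b / a) • w := by
          have := congrArg (fun z => a⁻¹ • z) h'
          simp only [smul_add, smul_smul, inv_mul_cancel₀ ha, one_smul, smul_zero] at this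
          rw [← hv, eq_neg_of_add_eq_zero_left this, neg_div, neg_smul, div_eq_inv_mul]
        exact div_ne_zero (neg_ne_zero.2 hb) ha (hkill w hw0 _ h3)
  by_contra hlt
  have hspan : Submodule.span F (Set.range ![(⟨v, hvW⟩ : W), ⟨w, hw⟩]) = ⊤ := by
    refine hli.span_eq_top_of_card_eq_finrank ?_
    have := hli.fintype_card_le_finrank
    simp only [Fintype.card_fin] at this ⊢
    omega
  have hrep : ∀ y ∈ W, ∃ a b : F, y = a • v + b • w := by
    intro y hy
    have hy' : (⟨y, hy⟩ : W) ∈ Submodule.span F (Set.range ![(⟨v, hvW⟩ : W), ⟨w, hw⟩]) :=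
      hspan ▸ Submodule.mem_top
    obtain ⟨c, hc⟩ := (Submodule.mem_span_range_iff_exists_fun F).1 hy'
    refine ⟨c 0, c 1, ?_⟩
    have := congrArg Subtype.val hc
    simpa [Fin.sum_univ_two] using this.symm
  obtain ⟨a, b, hab⟩ := hrep _ (hW v hvW)
  -- `N v = 0`
  have hNv : N *ᵥ v = 0 := by
    by_cases hb : b = 0
    · subst hb
      rw [zero_smul, add_zero] at hab
      rw [hab, hkill v hw1 a hab, zero_smul]
    · exfalso
      -- `N² w = a N w + b w` with `b ≠ 0` makes `N` invertible on the span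
      have hk : ∀ k, ∀ x y : F, (x ≠ 0 ∨ y ≠ 0) → ∃ x' y' : F, (x' ≠ 0 ∨ y' ≠ 0) ∧
          (N ^ k) *ᵥ (x • v + y • w) = x' • v + y' • w := by
        intro k
        induction k with
        | zero => intro x y h; exact ⟨x, y, h, by simp⟩
        | succ k ih =>
          intro x y h
          obtain ⟨x', y', h', e⟩ := ih x y h
          refine ⟨x' * a + y', x' * b, ?_, ?_⟩
          · by_cases hx : x' = 0
            · subst hx; left; simpa using h'
            · exact Or.inr (mul_ne_zero hx hb)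
          · rw [pow_succ', ← Matrix.mulVec_mulVec, e, Matrix.mulVec_add, Matrix.mulVec_smul,
              Matrix.mulVec_smul, hab, ← hv]
            module
      obtain ⟨x', y', h', e⟩ := hk J 1 0 (Or.inl one_ne_zero)
      rw [hJ, Matrix.zero_mulVec] at e
      have := LinearIndependent.pair_iff.1 hli x' y' (Subtype.ext e.symm)
      rcases h' with h' | h'
      · exact h' this.1
      · exact h' this.2
  have hUv : U *ᵥ v = v := by
    rw [show U = N + 1 by rw [hN, sub_add_cancel], Matrix.add_mulVec, hNv, Matrix.one_mulVec,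
      zero_add]
  have hadv : (adjO G hG hs).ad U *ᵥ v = v := by
    conv_lhs => rw [← hUv, Matrix.mulVec_mulVec, hU, Matrix.one_mulVec]
  have hskew : ∀ x y, (N *ᵥ x) ⬝ᵥ (G *ᵥ y) = -(x ⬝ᵥ (G *ᵥ ((adjO G hG hs).ad U *ᵥ (N *ᵥ y)))) := by
    intro x y
    rw [isom_pair (hG := hG) (hs := hs)]
    have : (adjO G hG hs).ad N = -((adjO G hG hs).ad U * N) := by
      rw [hN, (adjO G hG hs).ad_sub, (adjO G hG hs).ad_one, mul_sub, mul_one, hU]; abel
    rw [this, Matrix.neg_mulVec, Matrix.mulVec_neg, dotProduct_neg]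
    simp only [Matrix.mulVec_mulVec, mul_assoc]
  have hvv : v ⬝ᵥ (G *ᵥ v) = 0 := by
    rw [hv, hskew, ← hv, hNv, Matrix.mulVec_zero, Matrix.mulVec_zero, dotProduct_zero, neg_zero]
  have hvw : v ⬝ᵥ (G *ᵥ w) = 0 := by
    have h3 : v ⬝ᵥ (G *ᵥ w) = -(w ⬝ᵥ (G *ᵥ v)) := by rw [hv, hskew, ← hv, hadv]
    have h4 : w ⬝ᵥ (G *ᵥ v) = v ⬝ᵥ (G *ᵥ w) := by
      rw [Matrix.dotProduct_mulVec, dotProduct_comm, ← Matrix.mulVec_transpose, hs]
    rw [h4] at h3
    have : (2 : F) * (v ⬝ᵥ (G *ᵥ w)) = 0 := by linear_combination h3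
    exact (mul_eq_zero.1 this).resolve_left h2
  refine hw1 (hnd v hvW fun y hy => ?_)
  obtain ⟨c, e, rfl⟩ := hrep y hy
  rw [Matrix.mulVec_add, Matrix.mulVec_smul, Matrix.mulVec_smul, dotProduct_add, dotProduct_smul,
    dotProduct_smul, hvv, hvw, smul_zero, smul_zero, add_zero]

omit [Fintype F] in
/-- Kernels of self-adjoint factors are nondegenerate. -/
theorem nondeg_ker {G : Matrix ι ι F} {hG : IsUnit G.det} {hs : Gᵀ = G} {S : Matrix ι ι F}
    (hS : (adjO G hG hs).ad S * S = 1) (f r : F[X])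
    (hf : Associated ((adjO G hG hs).cr f) f) (hcop : IsCoprime f r) (hfr : aeval S (f * r) = 0)
    (x : ι → F) (hx : aeval S f *ᵥ x = 0)
    (hperp : ∀ y, aeval S f *ᵥ y = 0 → x ⬝ᵥ (G *ᵥ y) = 0) : x = 0 := by
  obtain ⟨a, b, hab⟩ := hcop
  have hall : ∀ z, x ⬝ᵥ (G *ᵥ z) = 0 := by
    intro z
    have hz : z = aeval S (a * f) *ᵥ z + aeval S (b * r) *ᵥ z := by
      rw [← Matrix.add_mulVec, ← map_add, hab, map_one, Matrix.one_mulVec]
    rw [hz, Matrix.mulVec_add, dotProduct_add]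
    have h2 : x ⬝ᵥ (G *ᵥ (aeval S (b * r) *ᵥ z)) = 0 := by
      refine hperp _ ?_
      rw [Matrix.mulVec_mulVec, ← map_mul, show f * (b * r) = (f * r) * b by ring, map_mul, hfr,
        zero_mul, Matrix.zero_mulVec]
    rw [h2, add_zero]
    have hadf : (adjO G hG hs).ad (aeval S f) *ᵥ x = 0 := by
      obtain ⟨u, hu⟩ := hf.symm
      have h3 := (adjO G hG hs).aeval_cr hS f
      rw [← hu, mul_comm f, map_mul] at h3
      have h4 : (S ^ f.natDegree * (adjO G hG hs).ad (aeval S f)) *ᵥ x = 0 := by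
        rw [← h3, ← Matrix.mulVec_mulVec, hx, Matrix.mulVec_zero]
      have hinv : ∀ k, (adjO G hG hs).ad (S ^ k) * S ^ k = 1 := (adjO G hG hs).isom_pow hS
      have h5 := congrArg (fun w => (adjO G hG hs).ad (S ^ f.natDegree) *ᵥ w) h4
      rwa [Matrix.mulVec_mulVec, ← mul_assoc, hinv, one_mul, Matrix.mulVec_zero] at h5
    rw [map_mul, ← Matrix.mulVec_mulVec, ← show (adjO G hG hs).ad ((adjO G hG hs).ad (aeval S a)) =
      aeval S a from (adjO G hG hs).ad_ad _]
    rw [show aeval S a = (adjO G hG hs).ad ((adjO G hG hs).ad (aeval S a)) from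
      ((adjO G hG hs).ad_ad _).symm, ← isom_pair]
    rw [show aeval S f = (adjO G hG hs).ad ((adjO G hG hs).ad (aeval S f)) from
      ((adjO G hG hs).ad_ad _).symm, ← isom_pair]
    rw [Matrix.mulVec_mulVec, ← (adjO G hG hs).ad_mul, (adjO G hG hs).ad_ad]
    have hc : aeval S f * aeval S a = aeval S a * aeval S f :=
      ((Commute.all f a).map (aeval S)).eq
    rw [← hc, (adjO G hG hs).ad_mul, ← Matrix.mulVec_mulVec, hadf, Matrix.mulVec_zero,
      zero_dotProduct]
  have hGx : G *ᵥ x = 0 := by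
    funext i
    have := hall (Pi.single i 1)
    rw [Matrix.dotProduct_mulVec, ← Matrix.mulVec_transpose, hs] at this
    simpa using this
  have := congrArg (fun w => G⁻¹ *ᵥ w) hGx
  simpa [Matrix.mulVec_mulVec, Matrix.nonsing_inv_mul G hG] using this

omit [Fintype F] [DecidableEq ι] in
/-- A vector whose annihilator is generated by a given squarefree divisor of the minimal polynomial. -/
theorem exists_cyclic [DecidableEq ι] (S : Matrix ι ι F) (hsq : Squarefree (minpoly F S)) :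
    ∀ (d : ℕ) (h : F[X]), h.natDegree = d → h.Monic → h ∣ minpoly F S →
      ∃ v, aeval S h *ᵥ v = 0 ∧ ∀ r : F[X], aeval S r *ᵥ v = 0 → h ∣ r := by
  intro d
  induction d using Nat.strong_induction_on with
  | _ d ih =>
  intro h hd hm hdvd
  subst hd
  by_cases hu : IsUnit h
  · exact ⟨0, Matrix.mulVec_zero _, fun r _ => hu.dvd⟩
  obtain ⟨f, hfm, hfi, h₂, hh⟩ := Polynomial.exists_monic_irreducible_factor h hu
  have hm₂ : h₂.Monic := hfm.of_mul_monic_left (hh ▸ hm)
  have hlt : h₂.natDegree < h.natDegree := by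
    rw [hh, hfm.natDegree_mul hm₂]; have := hfi.natDegree_pos; omega
  obtain ⟨v₂, hv₂, hann₂⟩ := ih _ hlt h₂ rfl hm₂ ((Dvd.intro_left f hh.symm).trans hdvd)
  obtain ⟨r₁, hr₁⟩ : f ∣ minpoly F S := (Dvd.intro h₂ hh.symm).trans hdvd
  have hnd : ¬ minpoly F S ∣ r₁ := fun hd => by
    have h3 := natDegree_le_of_dvd hd (right_ne_zero_of_mul (hr₁ ▸ minpoly.ne_zero (Matrix.isIntegral S)))
    rw [hr₁, natDegree_mul hfi.ne_zero
      (right_ne_zero_of_mul (hr₁ ▸ minpoly.ne_zero (Matrix.isIntegral S)))] at h3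
    have := hfi.natDegree_pos
    omega
  obtain ⟨w, hw⟩ : ∃ w, aeval S r₁ *ᵥ w ≠ 0 := by
    by_contra hcon
    simp only [not_exists, not_not] at hcon
    exact hnd (minpoly.dvd F S (Matrix.ext_of_mulVec_single fun i => by
      rw [hcon, Matrix.zero_mulVec]))
  set v₁ := aeval S r₁ *ᵥ w
  have hv₁ : aeval S f *ᵥ v₁ = 0 := by
    rw [Matrix.mulVec_mulVec, ← map_mul, ← hr₁, minpoly.aeval, Matrix.zero_mulVec]
  have hann₁ : ∀ r : F[X], aeval S r *ᵥ v₁ = 0 → f ∣ r := by
    intro r hr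
    by_contra hnd
    obtain ⟨a, b, hab⟩ := hfi.coprime_iff_not_dvd.2 hnd
    refine hw ?_
    have h3 : v₁ = aeval S (a * f + b * r) *ᵥ v₁ := by rw [hab, map_one, Matrix.one_mulVec]
    rw [h3, map_add, map_mul, map_mul, Matrix.add_mulVec, ← Matrix.mulVec_mulVec,
      ← Matrix.mulVec_mulVec, hv₁, hr, Matrix.mulVec_zero, Matrix.mulVec_zero, add_zero]
  have hcop : IsCoprime f h₂ :=
    IsRelPrime.isCoprime fun e e1 e2 => hsq e ((hh ▸ mul_dvd_mul e1 e2).trans hdvd)
  refine ⟨v₁ + v₂, ?_, fun r hr => ?_⟩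
  · rw [Matrix.mulVec_add, hh]
    nth_rw 1 [mul_comm f h₂]
    rw [map_mul, map_mul, ← Matrix.mulVec_mulVec, ← Matrix.mulVec_mulVec, hv₁, hv₂,
      Matrix.mulVec_zero, Matrix.mulVec_zero, add_zero]
  rw [hh]
  refine hcop.mul_dvd ?_ ?_
  · refine hcop.dvd_of_dvd_mul_left (hann₁ _ ?_)
    have h3 := congrArg (fun z => aeval S h₂ *ᵥ z) hr
    rw [Matrix.mulVec_zero, Matrix.mulVec_mulVec, ← map_mul, Matrix.mulVec_add] at h3
    rw [mul_comm h₂ r, map_mul, ← Matrix.mulVec_mulVec v₂, hv₂, Matrix.mulVec_zero, add_zero,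
      ← map_mul, mul_comm] at h3
    exact h3
  · refine hcop.symm.dvd_of_dvd_mul_left (hann₂ _ ?_)
    have h3 := congrArg (fun z => aeval S f *ᵥ z) hr
    rw [Matrix.mulVec_zero, Matrix.mulVec_mulVec, ← map_mul, Matrix.mulVec_add] at h3
    rw [mul_comm f r, map_mul, ← Matrix.mulVec_mulVec v₁, hv₁, Matrix.mulVec_zero, zero_add,
      ← map_mul, mul_comm] at h3
    exact h3

/-- The kernel of a factor, as a submodule. -/
noncomputable def kerP (S : Matrix ι ι F) (f : F[X]) : Submodule F (ι → F) :=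
  LinearMap.ker (aeval S f).mulVecLin

omit [Fintype F] in
theorem mem_kerP {S : Matrix ι ι F} {f : F[X]} {x : ι → F} :
    x ∈ kerP S f ↔ aeval S f *ᵥ x = 0 := Iff.rfl

/-- Isometries of order `q ^ (n - 1) + 1` centralising a non-trivial unipotent: an irreducible
factor of degree `2 n - 2` and a three dimensional fixed space. -/
theorem structure_thm {G : Matrix ι ι F} {hG : IsUnit G.det} {hs : Gᵀ = G} (h2 : (2 : F) ≠ 0)
    {n : ℕ} (hn : 3 ≤ n) (hι : Fintype.card ι = 2 * n + 1) {S U : Matrix ι ι F}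
    (hS : (adjO G hG hs).ad S * S = 1) (hU : (adjO G hG hs).ad U * U = 1) (hdet : S.det = 1)
    (hSN : S ^ (Fintype.card F ^ (n - 1) + 1) = 1)
    (hNF : ((Fintype.card F ^ (n - 1) + 1 : ℕ) : F) ≠ 0)
    (hmin : ∀ j, 0 < j → j < Fintype.card F ^ (n - 1) + 1 → S ^ j ≠ 1)
    (hnil : IsNilpotent (U - 1)) (hU1 : U ≠ 1) (hSU : Commute S U) :
    Module.finrank F (kerP S (X - C 1)) = 3 ∧
    (∀ x ∈ kerP S (X - C 1), (∀ y ∈ kerP S (X - C 1), x ⬝ᵥ (G *ᵥ y) = 0) → x = 0) ∧
    ∀ j, 0 < j → j < Fintype.card F ^ (n - 1) + 1 → ∀ x, (S ^ j) *ᵥ x = x → S *ᵥ x = x := by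
  classical
  set M := adjO G hG hs with hM
  set q := Fintype.card F with hq
  set N₀ := q ^ (n - 1) + 1 with hN₀
  set m := minpoly F S with hm
  set N := U - 1 with hN
  have hq2 : q % 2 = 1 := odd_card h2
  have hq3 : 3 ≤ q := by have := Fintype.one_lt_card (α := F); omega
  have hmon : m.Monic := minpoly.monic (Matrix.isIntegral S)
  have hdvdX : m ∣ X ^ N₀ - 1 := minpoly.dvd F S (by simp [hSN])
  have hsq : Squarefree m :=
    (X_pow_sub_one_separable_iff.2 hNF).squarefree.squarefree_of_dvd hdvdX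
  have hm0 : m.coeff 0 ≠ 0 := by
    intro h
    obtain ⟨r, hr⟩ := hdvdX
    have := congrArg (fun p : F[X] => p.coeff 0) hr
    simp [mul_coeff_zero, h, hN₀, coeff_X_pow] at this
  have hcm : Associated m (M.cr m) := M.minpoly_cr hS hm0
  have hNS : ∀ r : F[X], Commute (aeval S r) N := by
    intro r
    have hc : Commute S N := hSU.sub_right (Commute.one_right S)
    induction r using Polynomial.induction_on' with
    | add a b ha hb => rw [map_add]; exact ha.add_left hb
    | monomial k c =>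
      rw [aeval_monomial]
      exact (Algebra.commute_algebraMap_left c N).mul_left (hc.pow_left k)
  have hNker : ∀ f : F[X], ∀ x ∈ kerP S f, N *ᵥ x ∈ kerP S f := fun f x hx => by
    rw [mem_kerP] at hx ⊢
    rw [Matrix.mulVec_mulVec, (hNS f).eq, ← Matrix.mulVec_mulVec, hx, Matrix.mulVec_zero]
  obtain ⟨J, hJ⟩ := hnil
  have hN0 : N ≠ 0 := sub_ne_zero.2 hU1
  -- `N` vanishes on any cyclic invariant subspace
  have hcyc : ∀ (h : F[X]) (v : ι → F), Squarefree h → (∀ r : F[X], aeval S r *ᵥ v = 0 → h ∣ r) →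
      aeval S h *ᵥ v = 0 → (∃ r : F[X], N *ᵥ v = aeval S r *ᵥ v) → N *ᵥ v = 0 := by
    intro h v hh hann hv ⟨r, hr⟩
    have hk : ∀ k, (N ^ k) *ᵥ v = aeval S (r ^ k) *ᵥ v := fun k => by
      induction k with
      | zero => simp
      | succ k ih =>
        rw [pow_succ, ← Matrix.mulVec_mulVec, hr, Matrix.mulVec_mulVec,
          ← ((hNS r).pow_right k).eq, ← Matrix.mulVec_mulVec, ih, Matrix.mulVec_mulVec, ← map_mul,
          ← pow_succ']
    have h3 := hk J
    rw [hJ, Matrix.zero_mulVec] at h3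
    obtain ⟨c, hc⟩ := hh.isRadical J r (hann _ h3.symm)
    rw [hr, hc, mul_comm, map_mul, ← Matrix.mulVec_mulVec, hv, Matrix.mulVec_zero]
  -- dimension of the span of a cyclic vector
  have hdim : ∀ (h : F[X]) (v : ι → F), h.Monic → (∀ r : F[X], aeval S r *ᵥ v = 0 → h ∣ r) →
      LinearIndependent F (fun l : Fin h.natDegree => (S ^ (l : ℕ)) *ᵥ v) := by
    intro h v hhm hann
    rw [Fintype.linearIndependent_iff]
    intro c hc l
    have h3 : aeval S (∑ l : Fin h.natDegree, C (c l) * X ^ (l : ℕ)) *ᵥ v = 0 := by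
      simp only [map_sum, map_mul, aeval_C, map_pow, aeval_X, Matrix.sum_mulVec,
        ← Algebra.smul_def, Matrix.smul_mulVec]
      exact hc
    have h4 := eq_zero_of_dvd_of_degree_lt (hann _ h3) (by
      rw [degree_eq_natDegree hhm.ne_zero]; exact degree_sum_fin_lt c)
    have h5 := congrArg (fun p : F[X] => p.coeff l) h4
    simpa [finsetSum_coeff, coeff_X_pow, Fin.val_inj] using h5
  -- the characteristic polynomial is not the minimal one
  obtain ⟨r, hr⟩ : m ∣ S.charpoly := Matrix.minpoly_dvd_charpoly S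
  have hrm : r.Monic := hmon.of_mul_monic_left (hr ▸ S.charpoly_monic)
  have hdegr : m.natDegree + r.natDegree = 2 * n + 1 := by
    rw [← hmon.natDegree_mul hrm, ← hr, Matrix.charpoly_natDegree_eq_dim, hι]
  have hrfac : ∀ f : F[X], Irreducible f → f ∣ r → f ∣ m := fun f hf hfd =>
    dvd_minpoly_of_dvd_charpoly hf (hr ▸ dvd_mul_of_dvd_right hfd m)
  have hr1 : 1 ≤ r.natDegree := by
    by_contra hlt
    have hfull : m.natDegree = Fintype.card ι := by omega
    obtain ⟨v, hv, hann⟩ := exists_cyclic S hsq _ m rfl hmon dvd_rfl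
    have hli := hdim m v hmon hann
    have hspan := hli.span_eq_top_of_card_eq_finrank' (by
      rw [Fintype.card_fin, hfull, Module.finrank_fintype_fun_eq_card])
    have hrep : ∀ x, ∃ r : F[X], x = aeval S r *ᵥ v := by
      intro x
      obtain ⟨c, hc⟩ := (Submodule.mem_span_range_iff_exists_fun F).1 (hspan ▸ Submodule.mem_top :
        x ∈ Submodule.span F (Set.range fun l : Fin m.natDegree => (S ^ (l : ℕ)) *ᵥ v))
      refine ⟨∑ l : Fin m.natDegree, C (c l) * X ^ (l : ℕ), hc ▸ ?_⟩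
      simp only [map_sum, map_mul, aeval_C, map_pow, aeval_X, Matrix.sum_mulVec,
        ← Algebra.smul_def, Matrix.smul_mulVec]
    have hNv : N *ᵥ v = 0 := hcyc m v hsq hann hv (hrep _)
    refine hN0 (Matrix.ext_of_mulVec_single fun i => ?_)
    obtain ⟨r', hr'⟩ := hrep (Pi.single i 1)
    rw [Matrix.zero_mulVec, hr', Matrix.mulVec_mulVec, ← (hNS r').eq, ← Matrix.mulVec_mulVec, hNv,
      Matrix.mulVec_zero]
  -- split off the roots `±1`
  set ε₁ : F[X] := if m.eval 1 = 0 then X - C 1 else 1 with hε₁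
  set ε₂ : F[X] := if m.eval (-1) = 0 then X - C (-1) else 1 with hε₂
  have hne : (1 : F) ≠ -1 := fun e => h2 (by linear_combination e)
  have hcop12 : IsCoprime (X - C (1 : F)) (X - C (-1)) :=
    Polynomial.isCoprime_X_sub_C_of_isUnit_sub (isUnit_iff_ne_zero.2 (sub_ne_zero.2 hne))
  have hcop : IsCoprime ε₁ ε₂ := by
    rw [hε₁, hε₂]
    split_ifs
    · exact hcop12
    · exact isCoprime_one_right
    · exact isCoprime_one_left
    · exact isCoprime_one_left
  have hε₁d : ε₁ ∣ m := by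
    rw [hε₁]; split_ifs with h
    · exact dvd_iff_isRoot.2 h
    · exact one_dvd _
  have hε₂d : ε₂ ∣ m := by
    rw [hε₂]; split_ifs with h
    · exact dvd_iff_isRoot.2 h
    · exact one_dvd _
  obtain ⟨h, hh⟩ := hcop.mul_dvd hε₁d hε₂d
  have hcrlin : ∀ c : F, c * c = 1 → Associated (M.cr (X - C c)) (X - C c) := by
    intro c hc
    refine (associated_of_dvd_of_natDegree_le ?_ (M.cr_ne_zero (X_sub_C_ne_zero c)) ?_).symm
    · refine dvd_iff_isRoot.2 ?_
      have hc0 : c ≠ 0 := left_ne_zero_of_mul_eq_one hc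
      have hci : c⁻¹ = c := inv_eq_of_mul_eq_one_right hc
      have : Invertible c := invertibleOfNonzero hc0
      show eval₂ (RingHom.id F) c _ = 0
      rw [Adj.cr]
      conv_lhs => arg 2; rw [← hci, ← invOf_eq_inv]
      rw [eval₂_reverse_eq_zero_iff]
      show eval₂ (RingHom.id F) c ((X - C c).map (RingHom.id F)) = 0
      simp
    · rw [M.natDegree_cr (by simp [left_ne_zero_of_mul_eq_one hc])]
  have hε₁m : ε₁.Monic := by rw [hε₁]; split_ifs; exacts [monic_X_sub_C _, monic_one]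
  have hε₂m : ε₂.Monic := by rw [hε₂]; split_ifs; exacts [monic_X_sub_C _, monic_one]
  have hhm : h.Monic := (hε₁m.mul hε₂m).of_mul_monic_left (hh ▸ hmon)
  have hεcr : Associated (M.cr (ε₁ * ε₂)) (ε₁ * ε₂) := by
    rw [M.cr_mul]
    have h1 : ∀ (P : Prop) [Decidable P] (c : F), c * c = 1 →
        Associated (M.cr (if P then X - C c else 1)) (if P then X - C c else 1) := by
      intro P _ c hc
      split_ifs
      · exact hcrlin c hc
      · exact associated_one_iff_isUnit.2 (M.cr_isUnit isUnit_one)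
    exact (h1 _ 1 (one_mul 1)).mul_mul (h1 _ (-1) (by ring))
  have hcrh : Associated (M.cr h) h := by
    have h3 : Associated (ε₁ * ε₂ * h) (ε₁ * ε₂ * M.cr h) := by
      rw [← hh]
      refine hcm.trans ?_
      rw [hh, M.cr_mul]
      exact hεcr.mul_right _
    exact (Associated.of_mul_left h3 (Associated.refl _) (hε₁m.mul hε₂m).ne_zero).symm
  have hh0 : h.coeff 0 ≠ 0 := fun e => hm0 (by rw [hh, mul_coeff_zero, e, mul_zero])
  have hroot : ∀ c : F, m.eval c = 0 → (c = 1 ∨ c = -1) → h.eval c ≠ 0 := by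
    intro c hc hc' hhc
    have hd : X - C c ∣ ε₁ * ε₂ := by
      rcases hc' with rfl | rfl
      · rw [hε₁, if_pos hc]; exact dvd_mul_right _ _
      · rw [hε₂, if_pos hc]; exact dvd_mul_left _ _
    exact (irreducible_X_sub_C c).not_isUnit (hsq _ (hh ▸ mul_dvd_mul hd (dvd_iff_isRoot.2 hhc)))
  have hh1 : h.eval 1 ≠ 0 := fun e =>
    hroot 1 (by rw [hh, eval_mul, e, mul_zero]) (Or.inl rfl) e
  have hhn1 : h.eval (-1) ≠ 0 := fun e =>
    hroot (-1) (by rw [hh, eval_mul, e, mul_zero]) (Or.inr rfl) e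
  obtain ⟨L, k, hk, hL2, hLpos, hLdvd, hL⟩ := exists_exponent M (fun _ => rfl) h2 h hhm
    (hsq.squarefree_of_dvd (Dvd.intro_left _ hh.symm)) hh0 hh1 hhn1 hcrh
  -- `S ^ L = 1`
  have hmL : m ∣ X ^ L - 1 := by
    obtain ⟨c, hc⟩ := hL2
    have hd : (X - C (1 : F)) * (X - C (-1)) ∣ X ^ L - 1 := by
      rw [show (X - C (1 : F)) * (X - C (-1)) = X ^ 2 - 1 by rw [map_neg, map_one]; ring, hc, pow_mul]
      simpa using sub_dvd_pow_sub_pow ((X : F[X]) ^ 2) 1 c
    rw [hh]
    refine IsCoprime.mul_dvd (IsRelPrime.isCoprime fun e e1 e2 => hsq e (hh ▸ mul_dvd_mul e1 e2))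
      ?_ hLdvd
    refine (mul_dvd_mul ?_ ?_).trans hd
    · rw [hε₁]; split_ifs; exacts [dvd_rfl, one_dvd _]
    · rw [hε₂]; split_ifs; exacts [dvd_rfl, one_dvd _]
  have hSL : S ^ L = 1 := by
    obtain ⟨c, hc⟩ := hmL
    have := congrArg (aeval S) hc
    rw [map_mul, minpoly.aeval, zero_mul, map_sub, map_pow, aeval_X, map_one, sub_eq_zero] at this
    exact this
  have hNL : N₀ ≤ L := by
    by_contra hlt
    exact hmin L hLpos (not_le.1 hlt) hSL
  have hdm : m.natDegree = ε₁.natDegree + ε₂.natDegree + 2 * k := by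
    rw [hh, (hε₁m.mul hε₂m).natDegree_mul hhm, hε₁m.natDegree_mul hε₂m, hk]
  have hkn : k ≤ n - 1 := by
    rcases Nat.lt_or_ge 1 r.natDegree with hr2 | hr2
    · omega
    · have hrd : r.natDegree = 1 := by omega
      obtain ⟨f, hfm, hfi, hfd⟩ := Polynomial.exists_monic_irreducible_factor r (fun hu => by
        have := natDegree_eq_zero_of_isUnit hu; omega)
      have hf1 : f.natDegree = 1 := by
        have h3 := natDegree_le_of_dvd hfd hrm.ne_zero
        have := hfi.natDegree_pos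
        omega
      have hfe : f = X - C (-f.coeff 0) := by
        rw [map_neg, sub_neg_eq_add]; exact hfm.eq_X_add_C hf1
      have hrf : r = f := eq_of_monic_of_associated hrm hfm
        (associated_of_dvd_of_natDegree_le hfd hrm.ne_zero (by omega)).symm
      set c := -f.coeff 0 with hc
      have hc0 : c ≠ 0 := by
        intro e
        have hfm' := hrfac f hfi hfd
        obtain ⟨t, ht⟩ := hfm'
        refine hm0 ?_
        rw [ht, hfe, e]; simp
      -- `c² = 1`
      have hcc : c * c = 1 := by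
        have hcr : Associated (M.cr r) r := by
          have h3 : Associated (m * r) (m * M.cr r) := by
            rw [← hr]
            refine (M.charpoly_cr hS).trans ?_
            rw [hr, M.cr_mul]
            exact hcm.symm.mul_right _
          exact (Associated.of_mul_left h3 (Associated.refl m) hmon.ne_zero).symm
        have hdv : X - C c ∣ M.cr r := (dvd_of_eq (by rw [hrf, ← hfe])).trans hcr.symm.dvd
        have h4 : IsRoot (M.cr r) c := dvd_iff_isRoot.1 hdv
        have : Invertible c := invertibleOfNonzero hc0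
        have h5 : eval₂ (RingHom.id F) (⅟c)⁻¹⁻¹ (M.cr r) = 0 ∨ True := Or.inr trivial
        have h6 : eval₂ (RingHom.id F) c⁻¹ (r.map M.σ.toRingHom) = 0 := by
          have : Invertible c⁻¹ := invertibleOfNonzero (inv_ne_zero hc0)
          rw [← eval₂_reverse_eq_zero_iff, invOf_eq_inv, inv_inv]
          exact h4
        rw [hrf, hfe] at h6
        simp [sub_eq_zero, show M.σ c = c from rfl] at h6
        rw [← mul_inv_cancel₀ hc0, h6]
      have hroot' : m.eval c = 0 := dvd_iff_isRoot.1 (hfe ▸ hrfac f hfi hfd)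
      rcases mul_self_eq_one_iff.1 hcc with e | e <;> rw [e] at hroot'
      · have : ε₁.natDegree = 1 := by rw [hε₁, if_pos hroot', natDegree_X_sub_C]
        omega
      · have : ε₂.natDegree = 1 := by rw [hε₂, if_pos hroot', natDegree_X_sub_C]
        omega
  have hqk : q ^ k ≤ q ^ (n - 1) := Nat.pow_le_pow_right (by omega) hkn
  obtain ⟨hhi, hLk⟩ : Irreducible h ∧ L = q ^ k + 1 := by
    rw [← hq] at hL
    rcases hL with ⟨-, e⟩ | h' | h'
    · have := hq3.trans (Nat.le_self_pow (show n - 1 ≠ 0 by omega) q)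
      omega
    · exact h'
    · omega
  have hke : k = n - 1 := Nat.pow_right_injective (by omega : 2 ≤ q) (by omega : q ^ k = q ^ (n - 1))
  subst hke
  -- the kernel of `h`
  have hhd : h ∣ m := Dvd.intro_left _ hh.symm
  have hhsq : Squarefree h := hsq.squarefree_of_dvd hhd
  obtain ⟨v, hv, hann⟩ := exists_cyclic S hsq _ h rfl hhm hhd
  have hv0 : v ≠ 0 := fun e => hhi.not_isUnit (isUnit_of_dvd_one (hann 1 (by rw [e, Matrix.mulVec_zero])))
  have hWh : ∀ x ∈ kerP S h, ∃ r : F[X], x = aeval S r *ᵥ v := by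
    intro x hx
    rw [mem_kerP] at hx
    by_contra hno
    simp only [not_exists] at hno
    -- two independent blocks are too many
    have hli : LinearIndependent F (fun z : Fin 2 × Fin h.natDegree =>
        (S ^ (z.2 : ℕ)) *ᵥ ![v, x] z.1) := by
      rw [Fintype.linearIndependent_iff]
      intro c hc
      set P : Fin 2 → F[X] := fun i => ∑ l : Fin h.natDegree, C (c (i, l)) * X ^ (l : ℕ) with hP
      have hev : aeval S (P 0) *ᵥ v + aeval S (P 1) *ᵥ x = 0 := by
        rw [← hc, Fintype.sum_prod_type, Fin.sum_univ_two]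
        simp only [hP, map_sum, map_mul, aeval_C, map_pow, aeval_X, Matrix.sum_mulVec,
          ← Algebra.smul_def, Matrix.smul_mulVec, Matrix.cons_val_zero, Matrix.cons_val_one]
      have hdeglt : ∀ i, (P i).degree < h.degree := fun i => by
        rw [degree_eq_natDegree hhm.ne_zero]; exact degree_sum_fin_lt fun l => c (i, l)
      have hP1 : P 1 = 0 := by
        by_contra hP1
        obtain ⟨a, b, hab⟩ := hhi.coprime_iff_not_dvd.2 fun hd =>
          hP1 (eq_zero_of_dvd_of_degree_lt hd (hdeglt 1))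
        refine hno (-(b * P 0)) ?_
        have h3 : x = aeval S (a * h + b * P 1) *ᵥ x := by rw [hab, map_one, Matrix.one_mulVec]
        rw [h3, map_add, map_mul, map_mul, Matrix.add_mulVec, ← Matrix.mulVec_mulVec,
          ← Matrix.mulVec_mulVec, hx, Matrix.mulVec_zero, zero_add, eq_neg_of_add_eq_zero_right hev,
          map_neg, Matrix.neg_mulVec, map_mul, ← Matrix.mulVec_mulVec, Matrix.mulVec_neg]
      rw [hP1, map_zero, Matrix.zero_mulVec, add_zero] at hev
      have hP0 : P 0 = 0 := eq_zero_of_dvd_of_degree_lt (hann _ hev) (hdeglt 0)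
      rintro ⟨i, l⟩
      have h5 : (P i).coeff l = 0 := by
        fin_cases i
        · simp [hP0]
        · simp [hP1]
      simpa [hP, finsetSum_coeff, coeff_X_pow, Fin.val_inj] using h5
    have := hli.fintype_card_le_finrank
    rw [Module.finrank_fintype_fun_eq_card, Fintype.card_prod, Fintype.card_fin, Fintype.card_fin,
      hι, hk] at this
    omega
  have hNh : ∀ x ∈ kerP S h, N *ᵥ x = 0 := by
    intro x hx
    have hNv : N *ᵥ v = 0 := hcyc h v hhsq hann hv (hWh _ (hNker h v (mem_kerP.2 hv)))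
    obtain ⟨r', hr'⟩ := hWh x hx
    rw [hr', Matrix.mulVec_mulVec, ← (hNS r').eq, ← Matrix.mulVec_mulVec, hNv, Matrix.mulVec_zero]
  have hWh_le : 2 * (n - 1) ≤ Module.finrank F (kerP S h) := by
    have hli := hdim h v hhm hann
    have hmem : ∀ l : Fin h.natDegree, (S ^ (l : ℕ)) *ᵥ v ∈ kerP S h := fun l => by
      rw [mem_kerP, Matrix.mulVec_mulVec, show S ^ (l : ℕ) = aeval S ((X : F[X]) ^ (l : ℕ)) by simp,
        ← map_mul, mul_comm, map_mul, ← Matrix.mulVec_mulVec, hv, Matrix.mulVec_zero]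
    have hli' : LinearIndependent F (fun l : Fin h.natDegree => (⟨_, hmem l⟩ : kerP S h)) :=
      LinearIndependent.of_comp (kerP S h).subtype hli
    simpa [hk] using hli'.fintype_card_le_finrank
  -- the `±1` eigenspace where `N` is non-zero
  have hsum : ∀ {f g : F[X]} (x : ι → F), IsCoprime f g → aeval S (f * g) *ᵥ x = 0 →
      ∃ y z, y ∈ kerP S f ∧ z ∈ kerP S g ∧ x = y + z := by
    intro f g x ⟨a, b, hab⟩ hx
    refine ⟨aeval S (b * g) *ᵥ x, aeval S (a * f) *ᵥ x, ?_, ?_, ?_⟩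
    · rw [mem_kerP, Matrix.mulVec_mulVec, ← map_mul, show f * (b * g) = b * (f * g) by ring,
        map_mul, ← Matrix.mulVec_mulVec, hx, Matrix.mulVec_zero]
    · rw [mem_kerP, Matrix.mulVec_mulVec, ← map_mul, show g * (a * f) = a * (f * g) by ring,
        map_mul, ← Matrix.mulVec_mulVec, hx, Matrix.mulVec_zero]
    · rw [← Matrix.add_mulVec, ← map_add, add_comm, hab, map_one, Matrix.one_mulVec]
  have hcoph : IsCoprime (ε₁ * ε₂) h :=
    IsRelPrime.isCoprime fun e e1 e2 => hsq e (hh ▸ mul_dvd_mul e1 e2)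
  obtain ⟨e, he, hne'⟩ : ∃ e : F, (e = 1 ∨ e = -1) ∧ ∃ x ∈ kerP S (X - C e), N *ᵥ x ≠ 0 := by
    by_contra hcon
    simp only [not_exists, not_and, not_not] at hcon
    have hker1 : ∀ x, aeval S ε₁ *ᵥ x = 0 → N *ᵥ x = 0 := fun x hx => by
      rw [hε₁] at hx
      split_ifs at hx
      · exact hcon 1 (Or.inl rfl) x hx
      · rw [map_one, Matrix.one_mulVec] at hx; rw [hx, Matrix.mulVec_zero]
    have hker2 : ∀ x, aeval S ε₂ *ᵥ x = 0 → N *ᵥ x = 0 := fun x hx => by
      rw [hε₂] at hx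
      split_ifs at hx
      · exact hcon (-1) (Or.inr rfl) x hx
      · rw [map_one, Matrix.one_mulVec] at hx; rw [hx, Matrix.mulVec_zero]
    refine hN0 (Matrix.ext_of_mulVec_single fun i => ?_)
    obtain ⟨y, z, hy, hz, hyz⟩ := hsum (f := ε₁ * ε₂) (g := h) (Pi.single i 1) hcoph (by
      rw [← hh, minpoly.aeval, Matrix.zero_mulVec])
    obtain ⟨y₁, y₂, hy₁, hy₂, hy'⟩ := hsum y hcop hy
    rw [Matrix.zero_mulVec, hyz, hy', Matrix.mulVec_add, Matrix.mulVec_add, hker1 y₁ hy₁,
      hker2 y₂ hy₂, hNh z hz, add_zero, add_zero]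
  have hee : e * e = 1 := by rcases he with rfl | rfl <;> ring
  have hme : X - C e ∣ m := by
    obtain ⟨x, hx, hx'⟩ := hne'
    by_contra hnd
    obtain ⟨a, b, hab⟩ := (irreducible_X_sub_C e).coprime_iff_not_dvd.2 hnd
    refine hx' ?_
    have h3 : x = aeval S (a * (X - C e) + b * m) *ᵥ x := by rw [hab, map_one, Matrix.one_mulVec]
    rw [h3, map_add, map_mul, map_mul, minpoly.aeval, mul_zero, add_zero, ← Matrix.mulVec_mulVec,
      mem_kerP.1 hx, Matrix.mulVec_zero, Matrix.mulVec_zero]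
  obtain ⟨t, ht⟩ := hme
  have hcopt : IsCoprime (X - C e) t :=
    IsRelPrime.isCoprime fun w e1 e2 => hsq w (ht ▸ mul_dvd_mul e1 e2)
  have hnd : ∀ x ∈ kerP S (X - C e), (∀ y ∈ kerP S (X - C e), x ⬝ᵥ (G *ᵥ y) = 0) → x = 0 :=
    fun x hx hperp => nondeg_ker (hG := hG) (hs := hs) hS (X - C e) t (hcrlin e hee) hcopt
    (by rw [← ht, minpoly.aeval]) x (mem_kerP.1 hx) (fun y hy => hperp y (mem_kerP.2 hy))
  have h3le : 3 ≤ Module.finrank F (kerP S (X - C e)) :=
    three_le_finrank (hG := hG) (hs := hs) h2 hU ⟨J, hJ⟩ _ (hNker _) hnd hne'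
  have hdisj : ∀ {f g : F[X]}, IsCoprime f g → Disjoint (kerP S f) (kerP S g) := by
    intro f g ⟨a, b, hab⟩
    rw [Submodule.disjoint_def]
    intro x hx hy
    have h3 : x = aeval S (a * f + b * g) *ᵥ x := by rw [hab, map_one, Matrix.one_mulVec]
    rw [h3, map_add, map_mul, map_mul, Matrix.add_mulVec, ← Matrix.mulVec_mulVec,
      ← Matrix.mulVec_mulVec, mem_kerP.1 hx, mem_kerP.1 hy, Matrix.mulVec_zero, Matrix.mulVec_zero,
      add_zero]
  have hhe : ¬ h ∣ X - C e := fun hd => by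
    have := natDegree_le_of_dvd hd (X_sub_C_ne_zero e)
    rw [natDegree_X_sub_C, hk] at this
    omega
  have hcopeh : IsCoprime (X - C e) h := (hhi.coprime_iff_not_dvd.2 hhe).symm
  have hdim2 := Submodule.finrank_sup_add_finrank_inf_eq (kerP S (X - C e)) (kerP S h)
  rw [(hdisj hcopeh).eq_bot, finrank_bot, add_zero] at hdim2
  have hle := Submodule.finrank_le (kerP S (X - C e) ⊔ kerP S h)
  rw [Module.finrank_fintype_fun_eq_card, hι, hdim2] at hle
  have hdim3 : Module.finrank F (kerP S (X - C e)) = 3 := by omega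
  have htop : kerP S (X - C e) ⊔ kerP S h = ⊤ := by
    refine Submodule.eq_top_of_finrank_eq ?_
    rw [hdim2, Module.finrank_fintype_fun_eq_card, hι]
    omega
  -- the other sign does not occur
  have hmdvd : m ∣ (X - C e) * h := by
    refine minpoly.dvd F S (Matrix.ext_of_mulVec_single fun i => ?_)
    obtain ⟨y, hy, z, hz, hyz⟩ := Submodule.mem_sup.1 (htop ▸ Submodule.mem_top :
      (Pi.single i 1 : ι → F) ∈ kerP S (X - C e) ⊔ kerP S h)
    rw [Matrix.zero_mulVec, ← hyz, Matrix.mulVec_add]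
    nth_rw 1 [mul_comm]
    rw [map_mul, map_mul, ← Matrix.mulVec_mulVec, ← Matrix.mulVec_mulVec, mem_kerP.1 hy,
      mem_kerP.1 hz, Matrix.mulVec_zero, Matrix.mulVec_zero, add_zero]
  have hme' : m = (X - C e) * h := by
    refine eq_of_monic_of_associated hmon ((monic_X_sub_C e).mul hhm)
      (associated_of_dvd_dvd hmdvd (hcopeh.mul_dvd ⟨t, ht⟩ hhd))
  -- the determinant forces `e = 1`
  have he1 : e = 1 := by
    have hr2 : r.natDegree = 2 := by
      rw [hme', (monic_X_sub_C e).natDegree_mul hhm, natDegree_X_sub_C, hk] at hdegr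
      omega
    have hfe : ∀ f : F[X], f.Monic → Irreducible f → f ∣ r → f = X - C e := by
      intro f hfm hfi hfd
      have hfm' := hrfac f hfi hfd
      rw [hme'] at hfm'
      rcases hfi.prime.dvd_or_dvd hfm' with h4 | h4
      · exact eq_of_monic_of_associated hfm (monic_X_sub_C e)
          (hfi.associated_of_dvd (irreducible_X_sub_C e) h4)
      · have h5 := eq_of_monic_of_associated hfm hhm (hfi.associated_of_dvd hhi h4)
        have := natDegree_le_of_dvd hfd hrm.ne_zero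
        rw [h5, hk, hr2] at this
        omega
    obtain ⟨f, hfm, hfi, hfd⟩ := Polynomial.exists_monic_irreducible_factor r (fun hu => by
      have := natDegree_eq_zero_of_isUnit hu; omega)
    rw [hfe f hfm hfi hfd] at hfd
    obtain ⟨r₂, hr₂⟩ := hfd
    have hr₂m : r₂.Monic := (monic_X_sub_C e).of_mul_monic_left (hr₂ ▸ hrm)
    have hr₂1 : r₂.natDegree = 1 := by
      rw [hr₂, (monic_X_sub_C e).natDegree_mul hr₂m, natDegree_X_sub_C] at hr2
      omega
    obtain ⟨f', hfm', hfi', hfd'⟩ := Polynomial.exists_monic_irreducible_factor r₂ (fun hu => by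
      have := natDegree_eq_zero_of_isUnit hu; omega)
    rw [hfe f' hfm' hfi' (hfd'.trans (Dvd.intro_left _ hr₂.symm))] at hfd'
    have hr₂e : r₂ = X - C e := eq_of_monic_of_associated hr₂m (monic_X_sub_C e)
      (associated_of_dvd_of_natDegree_le hfd' hr₂m.ne_zero (by rw [hr₂1, natDegree_X_sub_C])).symm
    have hc0 : h.coeff 0 = 1 := by
      obtain ⟨u, hu⟩ := hcrh.symm
      obtain ⟨b, -, hb⟩ := Polynomial.isUnit_iff.1 u.isUnit
      have hrev : M.cr h = h.reverse := by
        rw [Adj.cr, show M.σ.toRingHom = RingHom.id F from rfl, Polynomial.map_id]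
      rw [hrev] at hu
      have h5 := congrArg (fun p : F[X] => p.coeff 0) hu
      rw [mul_coeff_zero, ← hb, coeff_C_zero, coeff_zero_reverse, hhm.leadingCoeff] at h5
      have : Invertible (1 : F) := invertibleOne
      have h6 := eval₂_reverse_mul_pow (RingHom.id F) (1 : F) h
      rw [invOf_one, one_pow, mul_one] at h6
      have h7 := congrArg (fun p : F[X] => p.eval 1) hu
      rw [eval_mul, ← hb, eval_C] at h7
      change h.eval 1 * b = eval₂ (RingHom.id F) 1 h.reverse at h7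
      rw [h6] at h7
      change h.eval 1 * b = h.eval 1 at h7
      rw [mul_eq_left₀ hh1] at h7
      rwa [h7, mul_one] at h5
    have hcoeff : S.charpoly.coeff 0 = -(e * (e * e)) := by
      rw [hr, hme', hr₂, hr₂e]
      simp [mul_coeff_zero, hc0]
    rw [Matrix.det_eq_sign_charpoly_coeff, hι, hcoeff, hee, mul_one,
      Odd.neg_one_pow ⟨n, rfl⟩] at hdet
    linear_combination hdet
  subst he1
  refine ⟨hdim3, hnd, fun j hj0 hjN x hx => ?_⟩
  have hnh : ¬ h ∣ X ^ j - 1 := fun hd => by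
    refine hmin j hj0 hjN ?_
    have hd1 : X - C (1 : F) ∣ X ^ j - 1 := by
      simpa using sub_dvd_pow_sub_pow (X : F[X]) 1 j
    obtain ⟨c, hc⟩ := hcopeh.mul_dvd hd1 hd
    have := congrArg (aeval S) hc
    rw [map_mul, ← hme', minpoly.aeval, zero_mul, map_sub, map_pow, aeval_X, map_one,
      sub_eq_zero] at this
    exact this
  obtain ⟨a, b, hab⟩ := hhi.coprime_iff_not_dvd.2 hnh
  set x' := aeval S (X - C (1 : F)) *ᵥ x with hx'
  have h1 : aeval S h *ᵥ x' = 0 := by
    rw [hx', Matrix.mulVec_mulVec, ← map_mul, mul_comm, ← hme', minpoly.aeval, Matrix.zero_mulVec]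
  have h2' : aeval S (X ^ j - 1 : F[X]) *ᵥ x' = 0 := by
    rw [hx', Matrix.mulVec_mulVec, ← map_mul, mul_comm, map_mul, ← Matrix.mulVec_mulVec,
      show aeval S (X ^ j - 1 : F[X]) = S ^ j - 1 by simp, Matrix.sub_mulVec, Matrix.one_mulVec, hx,
      sub_self, Matrix.mulVec_zero]
  have h3 : x' = aeval S (a * h + b * (X ^ j - 1)) *ᵥ x' := by
    rw [hab, map_one, Matrix.one_mulVec]
  rw [map_add, map_mul, map_mul, Matrix.add_mulVec, ← Matrix.mulVec_mulVec, ← Matrix.mulVec_mulVec,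
    h1, h2', Matrix.mulVec_zero, Matrix.mulVec_zero, add_zero, hx', map_sub, aeval_X, aeval_C,
    map_one, Matrix.sub_mulVec, Matrix.one_mulVec, sub_eq_zero] at h3
  exact h3

end CfsgLib.OddOrtho
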