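import Cfsg.Agent.Lib.OddOrtho.Count
import Cfsg.Agent.Lib.OddOrtho.Structure
import Cfsg.Agent.Lib.Classical.Forms
import Cfsg.Agent.Lib.FormRep.Symplectic

set_option autoImplicit false

/-!
An element order of `PSp_{2n}(q)` that `Ω_{2n+1}(q)` does not have.
-/

namespace CfsgLib.OddOrtho

open Matrix Polynomial

variable {F : Type*} [Field F]

/-- The Gram matrix of `quadFormOdd`. -/
noncomputable def gram (n : ℕ) (F : Type*) [Field F] :
    Matrix (Unit ⊕ (Fin n ⊕ Fin n)) (Unit ⊕ (Fin n ⊕ Fin n)) F :=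
  fromBlocks 1 0 0 (fromBlocks 0 ((2 : F)⁻¹ • 1) ((2 : F)⁻¹ • 1) 0)

theorem gram_symm (n : ℕ) : (gram n F)ᵀ = gram n F := by
  simp [gram, fromBlocks_transpose]

theorem gram_unit (h2 : (2 : F) ≠ 0) (n : ℕ) : IsUnit (gram n F).det := by
  refine isUnit_det_of_right_inverse (B := fromBlocks 1 0 0 (fromBlocks 0 ((2 : F) • 1) ((2 : F) • 1) 0)) ?_
  simp [gram, fromBlocks_multiply, smul_smul, mul_inv_cancel₀ h2, inv_mul_cancel₀ h2]

theorem gram_form (h2 : (2 : F) ≠ 0) (n : ℕ) (v : Unit ⊕ (Fin n ⊕ Fin n) → F) :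
    v ⬝ᵥ (gram n F *ᵥ v) = Cfsg.quadFormOdd n F v := by
  simp only [gram, Cfsg.quadFormOdd, dotProduct, Fintype.sum_sum_type, fromBlocks_mulVec,
    Function.comp_def, Matrix.zero_mulVec, Matrix.one_mulVec, Matrix.smul_mulVec, Sum.elim_inl,
    Sum.elim_inr, Pi.add_apply, Pi.zero_apply, Pi.smul_apply, smul_eq_mul, zero_add, add_zero,
    Finset.univ_unique, PUnit.default_eq_unit, Finset.sum_singleton]
  rw [← Finset.sum_add_distrib, sq]
  refine congrArg₂ (· + ·) rfl (Finset.sum_congr rfl fun i _ => ?_)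
  field_simp
  ring

theorem isom_of_preserves (h2 : (2 : F) ≠ 0) (n : ℕ)
    (A : Matrix (Unit ⊕ (Fin n ⊕ Fin n)) (Unit ⊕ (Fin n ⊕ Fin n)) F)
    (h : ∀ v, Cfsg.quadFormOdd n F (A *ᵥ v) = Cfsg.quadFormOdd n F v) :
    (adjO (gram n F) (gram_unit h2 n) (gram_symm n)).ad A * A = 1 := by
  set G := gram n F with hG
  have hsymm : ∀ x y, x ⬝ᵥ (G *ᵥ y) = y ⬝ᵥ (G *ᵥ x) := fun x y => by
    rw [Matrix.dotProduct_mulVec, dotProduct_comm, ← Matrix.mulVec_transpose, hG, gram_symm]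
  have hB : ∀ x y, (A *ᵥ x) ⬝ᵥ (G *ᵥ (A *ᵥ y)) = x ⬝ᵥ (G *ᵥ y) := by
    intro x y
    have h3 := h (x + y)
    have hx := h x
    have hy := h y
    simp only [← gram_form h2] at h3 hx hy
    simp only [Matrix.mulVec_add, add_dotProduct, dotProduct_add, ← hG] at h3 hx hy
    rw [hsymm (A *ᵥ y) (A *ᵥ x), hsymm y x] at h3
    have h4 : (2 : F) * ((A *ᵥ x) ⬝ᵥ (G *ᵥ (A *ᵥ y)) - x ⬝ᵥ (G *ᵥ y)) = 0 := by
      linear_combination h3 - hx - hy
    exact sub_eq_zero.1 ((mul_eq_zero.1 h4).resolve_left h2)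
  have h5 : Aᵀ * G * A = G := by
    ext i j
    have h6 := hB (Pi.single i 1) (Pi.single j 1)
    rw [Matrix.mulVec_mulVec, ← Matrix.vecMul_transpose A (Pi.single i 1),
      ← Matrix.dotProduct_mulVec, Matrix.mulVec_mulVec, ← mul_assoc] at h6
    simpa using h6
  show G⁻¹ * Aᵀ * G * A = 1
  rw [mul_assoc, mul_assoc, ← mul_assoc Aᵀ, h5, Matrix.nonsing_inv_mul G (gram_unit h2 n)]

/-- The isometry group of `quadFormOdd`. -/
abbrev OG (n : ℕ) (F : Type*) [Field F] := Cfsg.isometryGroup F (Cfsg.quadFormOdd n F)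

variable [Fintype F]

/-- Points of a quadric in a three dimensional nondegenerate space. -/
theorem card_three (h2 : (2 : F) ≠ 0) {V : Type*} [AddCommGroup V] [Module F V]
    (B : LinearMap.BilinForm F V) (hS : ∀ x y, B x y = B y x)
    (hB : ∀ v, (∀ w, B v w = 0) → v = 0) (h3 : Module.finrank F V = 3) (c : F) (hc : c ≠ 0) :
    ∃ η : ℤ, (η = 1 ∨ η = -1) ∧ (Nat.card {v : V // B v v = c} : ℤ) =
      (Fintype.card F : ℤ) ^ 2 + η * (Fintype.card F : ℤ) := by
  classical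
  have : FiniteDimensional F V := Module.finite_of_finrank_eq_succ h3
  have hchar : ringChar F ≠ 2 := fun h => h2 (by
    have := CharP.cast_eq_zero F (ringChar F)
    rw [h] at this
    exact_mod_cast this)
  obtain ⟨α, hα⟩ := FiniteField.exists_nonsquare hchar
  obtain ⟨b, h0, h1, hlast⟩ := Forms.exists_orthogonal_basis_one h2 α hα 2 B hS hB h3
  set e := B (b (Fin.last 2)) (b (Fin.last 2)) with he
  have he0 : e ≠ 0 := by
    rcases hlast with h | h <;> rw [h]
    · exact one_ne_zero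
    · exact fun hz => hα (hz ▸ IsSquare.zero)
  obtain ⟨x₀, y₀, hxy⟩ := FiniteField.exists_root_sum_quadratic (R := F)
    (f := Polynomial.X ^ 2) (g := Polynomial.X ^ 2 + Polynomial.C e)
    (Polynomial.degree_X_pow 2) (by rw [Polynomial.degree_X_pow_add_C two_pos]; rfl)
    (odd_card h2)
  simp only [Polynomial.eval_pow, Polynomial.eval_X, Polynomial.eval_add, Polynomial.eval_C] at hxy
  -- two singular vectors and their perpendicular
  let Φ : F × (F × F) →ₗ[F] V :=
    { toFun := fun w => (w.2.1 * x₀ + w.2.2 * x₀ - w.1 * y₀) • b 0 +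
        (w.2.1 * y₀ + w.2.2 * y₀ + w.1 * x₀) • b 1 + (w.2.1 - w.2.2) • b (Fin.last 2)
      map_add' := fun a a' => by simp only [Prod.fst_add, Prod.snd_add]; module
      map_smul' := fun r a => by
        simp only [Prod.smul_fst, Prod.smul_snd, smul_eq_mul, RingHom.id_apply]; module }
  have hΦQ : ∀ w, B (Φ w) (Φ w) = -e * w.1 ^ 2 + (-4 * e) * (w.2.1 * w.2.2) := by
    intro w
    have he2 : B (b 2) (b 2) = e := he.symm
    simp [Φ, show Fin.last 2 = (2 : Fin 3) from rfl, h0 0 1 (by decide), h0 1 0 (by decide),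
      h0 0 2 (by decide), h0 2 0 (by decide), h0 1 2 (by decide), h0 2 1 (by decide),
      h1 0 (by decide), h1 1 (by decide), he2]
    linear_combination ((w.2.1 + w.2.2) ^ 2 + w.1 ^ 2) * hxy
  have hinj : Function.Injective Φ := by
    intro w w' hww
    have hlin := Fintype.linearIndependent_iff.1 b.linearIndependent
      ![(w.2.1 - w'.2.1) * x₀ + (w.2.2 - w'.2.2) * x₀ - (w.1 - w'.1) * y₀,
        (w.2.1 - w'.2.1) * y₀ + (w.2.2 - w'.2.2) * y₀ + (w.1 - w'.1) * x₀,
        (w.2.1 - w'.2.1) - (w.2.2 - w'.2.2)] (by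
      rw [Fin.sum_univ_three]
      have := sub_eq_zero.2 hww
      rw [← this]
      simp only [Φ, LinearMap.coe_mk, AddHom.coe_mk, Matrix.cons_val_zero, Matrix.cons_val_one,
        Matrix.cons_val_two, Matrix.tail_cons, Matrix.head_cons]
      rw [show (2 : Fin 3) = Fin.last 2 from rfl]
      module)
    have e0 := hlin 0
    have e1 := hlin 1
    have e2 := hlin 2
    simp at e0 e1 e2
    have hA : e * (w.1 - w'.1) = 0 := by
      linear_combination y₀ * e0 - x₀ * e1 + (w.1 - w'.1) * hxy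
    have hA' := (mul_eq_zero.1 hA).resolve_left he0
    have hB' : e * ((w.2.1 - w'.2.1) + (w.2.2 - w'.2.2)) = 0 := by
      linear_combination -x₀ * e0 - y₀ * e1 + ((w.2.1 - w'.2.1) + (w.2.2 - w'.2.2)) * hxy
    have hB'' := (mul_eq_zero.1 hB').resolve_left he0
    have hu : (2 : F) * (w.2.1 - w'.2.1) = 0 := by linear_combination hB'' + e2
    have hu' := (mul_eq_zero.1 hu).resolve_left h2
    refine Prod.ext (sub_eq_zero.1 hA') (Prod.ext (sub_eq_zero.1 hu') ?_)
    linear_combination hB'' - hu'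
  have hbij : Function.Bijective Φ :=
    ⟨hinj, (LinearMap.injective_iff_surjective_of_finrank_eq_finrank (by
      rw [Module.finrank_prod, Module.finrank_prod, Module.finrank_self, h3])).1 hinj⟩
  have h4e : (-4 * e) ≠ 0 := by
    refine mul_ne_zero (neg_ne_zero.2 ?_) he0
    rw [show (4 : F) = 2 * 2 by norm_num]; exact mul_ne_zero h2 h2
  obtain ⟨η, hη, hcard⟩ := card_ternary h2 (-e / (-4 * e)) (c / (-4 * e))
    (div_ne_zero (neg_ne_zero.2 he0) h4e) (div_ne_zero hc h4e)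
  refine ⟨η, hη, hcard ▸ ?_⟩
  rw [Nat.card_congr (Equiv.subtypeEquiv (Equiv.ofBijective Φ hbij).symm
    (q := fun w : F × (F × F) => -e / (-4 * e) * w.1 ^ 2 + w.2.1 * w.2.2 = c / (-4 * e)) fun v => ?_)]
  obtain ⟨w, rfl⟩ := (Equiv.ofBijective Φ hbij).surjective v
  rw [Equiv.symm_apply_apply]
  show B (Φ w) (Φ w) = c ↔ _
  rw [hΦQ, eq_div_iff h4e, add_mul, div_mul_eq_mul_div, div_mul_cancel₀ _ h4e]
  constructor <;> intro h <;> linear_combination h

/-- No commutator-subgroup element of order `p * (q ^ (n - 1) + 1)`. -/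
theorem orderOf_ne (h2 : (2 : F) ≠ 0) {n : ℕ} (hn : 3 ≤ n) (p : ℕ) (hp : p.Prime) [CharP F p]
    {a : ℕ} (ha : 1 ≤ a) (hF : Fintype.card F = p ^ a)
    (g : OG n F)
    (hg : g ∈ commutator (OG n F)) :
    orderOf g ≠ (Fintype.card F ^ (n - 1) + 1) * p := by
  classical
  intro hord
  have := Fact.mk hp
  set q := Fintype.card F with hq
  set N₀ := q ^ (n - 1) + 1 with hN₀
  let toMat : (OG n F) →* Matrix (Unit ⊕ (Fin n ⊕ Fin n)) (Unit ⊕ (Fin n ⊕ Fin n)) F := (Units.coeHom (Matrix (Unit ⊕ (Fin n ⊕ Fin n)) (Unit ⊕ (Fin n ⊕ Fin n)) F)).comp (OG n F).subtype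
  set S := toMat (g ^ p) with hS
  set U := toMat (g ^ N₀) with hU
  have hpres : ∀ (h : (OG n F)) v, Cfsg.quadFormOdd n F (toMat h *ᵥ v) = Cfsg.quadFormOdd n F v :=
    fun h v => h.2 v v
  have hinj : Function.Injective toMat := fun x y hxy => Subtype.ext (Units.ext hxy)
  have hiso : ∀ h : (OG n F), (adjO (gram n F) (gram_unit h2 n) (gram_symm n)).ad (toMat h) * toMat h = 1 :=
    fun h => isom_of_preserves h2 n _ (hpres h)
  have hdet : ∀ h ∈ commutator (OG n F), (toMat h).det = 1 := by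
    intro h hh
    let d : (OG n F) →* F := Matrix.detMonoidHom.comp toMat
    let du : (OG n F) →* Fˣ := d.toHomUnits
    have := Abelianization.commutator_subset_ker du hh
    exact congrArg Units.val (MonoidHom.mem_ker.1 this)
  have hq3 : 3 ≤ q := by
    have := Fintype.one_lt_card (α := F); have := odd_card (F := F) h2; omega
  have hSN : S ^ N₀ = 1 := by
    rw [hS, ← map_pow, ← pow_mul, mul_comm, ← hord, pow_orderOf_eq_one, map_one]
  have hmin : ∀ j, 0 < j → j < N₀ → S ^ j ≠ 1 := by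
    intro j hj0 hjN h1
    rw [hS, ← map_pow, ← pow_mul, ← map_one toMat] at h1
    have := Nat.le_of_dvd (by have := hp.pos; positivity) (orderOf_dvd_of_pow_eq_one (hinj h1))
    rw [hord, mul_comm p] at this
    exact absurd (Nat.le_of_mul_le_mul_right this hp.pos) (not_le.2 hjN)
  have hUp : U ^ p = 1 := by rw [hU, ← map_pow, ← pow_mul, ← hord, pow_orderOf_eq_one, map_one]
  have hnil : IsNilpotent (U - 1) := ⟨p, by
    rw [sub_pow_char_of_commute p (Commute.one_right U), hUp, one_pow, sub_self]⟩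
  have hU1 : U ≠ 1 := by
    intro h1
    rw [hU, ← map_one toMat] at h1
    have := Nat.le_of_dvd (Nat.succ_pos _) (orderOf_dvd_of_pow_eq_one (hinj h1))
    rw [hord] at this
    have h3 : N₀ * 2 ≤ N₀ * p := Nat.mul_le_mul_left _ hp.two_le
    omega
  have hNF : ((N₀ : ℕ) : F) ≠ 0 := by
    rw [hN₀, Nat.cast_add, Nat.cast_pow, Nat.cast_one, hF, Nat.cast_pow, CharP.cast_eq_zero F p,
      zero_pow (by omega), zero_pow (by omega), zero_add]
    exact one_ne_zero
  obtain ⟨hd3, hnd, hfix⟩ := structure_thm (hG := gram_unit h2 n) (hs := gram_symm n) h2 hn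
    (by simp; omega) (hiso _) (hiso _) (hdet _ (Subgroup.pow_mem _ hg p)) hSN hNF hmin hnil hU1
    ((Commute.refl g).pow_pow p N₀ |>.map toMat)
  -- the action on the quadric `Q = 1`
  let X := {v : (Unit ⊕ (Fin n ⊕ Fin n)) → F // Cfsg.quadFormOdd n F v = 1}
  let ρ : (OG n F) →* Equiv.Perm X :=
    { toFun := fun h =>
        { toFun := fun v => ⟨toMat h *ᵥ v.1, (hpres h v.1).trans v.2⟩
          invFun := fun v => ⟨toMat h⁻¹ *ᵥ v.1, (hpres h⁻¹ v.1).trans v.2⟩
          left_inv := fun v => Subtype.ext (by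
            show toMat h⁻¹ *ᵥ (toMat h *ᵥ v.1) = v.1
            rw [Matrix.mulVec_mulVec, ← map_mul, inv_mul_cancel, map_one, Matrix.one_mulVec])
          right_inv := fun v => Subtype.ext (by
            show toMat h *ᵥ (toMat h⁻¹ *ᵥ v.1) = v.1
            rw [Matrix.mulVec_mulVec, ← map_mul, mul_inv_cancel, map_one, Matrix.one_mulVec]) }
      map_one' := Equiv.ext fun v => Subtype.ext (by
        show toMat 1 *ᵥ v.1 = v.1
        rw [map_one, Matrix.one_mulVec])
      map_mul' := fun h k => Equiv.ext fun v => Subtype.ext (by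
        show toMat (h * k) *ᵥ v.1 = toMat h *ᵥ (toMat k *ᵥ v.1)
        rw [map_mul, Matrix.mulVec_mulVec]) }
  have hsign : Equiv.Perm.sign (ρ (g ^ p)) = 1 :=
    MonoidHom.mem_ker.1 (Abelianization.commutator_subset_ker (Equiv.Perm.sign.comp ρ)
      (Subgroup.pow_mem _ hg p))
  have hpowρ : ∀ j (v : X), ((ρ (g ^ p) ^ j) v).1 = (S ^ j) *ᵥ v.1 := by
    intro j v
    rw [← map_pow, hS, ← map_pow]
    rfl
  have hNeven : Even N₀ := by
    rw [hN₀]
    refine Odd.add_one ?_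
    exact (Nat.odd_iff.2 (odd_card h2)).pow
  obtain ⟨hσ, hmul⟩ := sign_of_semiregular (ρ (g ^ p)) N₀ hNeven (Nat.succ_pos _)
    (Equiv.ext fun v => Subtype.ext (by rw [hpowρ, hSN, Matrix.one_mulVec]; rfl))
    (fun v hv j hj0 hjN hfixv => hv (Subtype.ext (hfix j hj0 hjN v.1
      (by rw [← hpowρ, hfixv]))))
  -- count the support
  have hsupp : (ρ (g ^ p)).support.card + Nat.card {v : X // S *ᵥ v.1 = v.1} = Nat.card X := by
    rw [Nat.card_eq_fintype_card, Fintype.card_subtype, Nat.card_eq_fintype_card,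
      ← Finset.card_univ, add_comm]
    rw [← Finset.card_filter_add_card_filter_not (s := (Finset.univ : Finset X))
      (fun v => S *ᵥ v.1 = v.1)]
    congr 2
    ext v
    simp only [Finset.mem_filter, Finset.mem_univ, true_and, Equiv.Perm.mem_support, Ne]
    exact not_congr (Subtype.ext_iff)
  obtain ⟨η, hη, hX⟩ := card_quadFormOdd h2 (1 : F) one_ne_zero n
  set W := kerP S (Polynomial.X - Polynomial.C 1) with hW
  have hWmem : ∀ x, x ∈ W ↔ S *ᵥ x = x := fun x => by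
    rw [hW, mem_kerP, map_sub, aeval_X, aeval_C, map_one, Matrix.sub_mulVec, Matrix.one_mulVec,
      sub_eq_zero]
  let B : LinearMap.BilinForm F W :=
    LinearMap.mk₂ F (fun x y => x.1 ⬝ᵥ (gram n F *ᵥ y.1))
      (fun x x' y => by simp [add_dotProduct]) (fun c x y => by simp)
      (fun x y y' => by simp [Matrix.mulVec_add]) (fun c x y => by simp [Matrix.mulVec_smul])
  obtain ⟨η', hη', hY⟩ := card_three h2 B
    (fun x y => by
      show x.1 ⬝ᵥ (gram n F *ᵥ y.1) = y.1 ⬝ᵥ (gram n F *ᵥ x.1)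
      rw [Matrix.dotProduct_mulVec, dotProduct_comm, ← Matrix.mulVec_transpose, gram_symm])
    (fun v hv => Subtype.ext (hnd v.1 v.2 fun y hy => hv ⟨y, hy⟩)) hd3 1 one_ne_zero
  have hYX : Nat.card {v : X // S *ᵥ v.1 = v.1} = Nat.card {v : W // B v v = 1} := Nat.card_congr
    { toFun := fun v => ⟨⟨v.1.1, (hWmem _).2 v.2⟩, (gram_form h2 n _).trans v.1.2⟩
      invFun := fun v => ⟨⟨v.1.1, (gram_form h2 n _).symm.trans v.2⟩, (hWmem _).1 v.1.2⟩
      left_inv := fun v => rfl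
      right_inv := fun v => rfl }
  rw [hσ] at hsign
  set K := (ρ (g ^ p)).support.card / N₀
  have hKeven : Even K := by
    rcases Nat.even_or_odd K with h | h
    · exact h
    · rw [h.neg_one_pow] at hsign; exact absurd hsign (by decide)
  rw [← hmul, hYX] at hsupp
  have hz : (N₀ : ℤ) * (K : ℤ) = (q : ℤ) ^ (2 * n) + η * (q : ℤ) ^ n - ((q : ℤ) ^ 2 + η' * q) := by
    rw [hq, ← hX, ← hY, ← hsupp]
    push_cast
    ring
  obtain ⟨n', rfl⟩ : ∃ n', n = n' + 1 := ⟨n - 1, by omega⟩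
  rw [Nat.add_sub_cancel] at hN₀
  have hN₀z : (N₀ : ℤ) = (q : ℤ) ^ n' + 1 := by rw [hN₀]; push_cast; ring
  have hkey : (N₀ : ℤ) * ((K : ℤ) - ((q : ℤ) ^ 2 * ((q : ℤ) ^ n' - 1) + η * q)) = -((q : ℤ) * (η + η')) := by
    rw [mul_sub, hz, hN₀z]; ring
  have hzero : η + η' = 0 := by
    by_contra hne
    have hd : N₀ ∣ q * 2 := by
      have h3 : (N₀ : ℤ) ∣ (q : ℤ) * (η + η') := dvd_neg.1 ⟨_, hkey.symm⟩
      have h5 : (η + η').natAbs = 2 := by
        rcases hη with rfl | rfl <;> rcases hη' with rfl | rfl <;> first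
          | (exfalso; apply hne; norm_num; done)
          | rfl
      have h6 := Int.natCast_dvd.1 h3
      rwa [Int.natAbs_mul, Int.natAbs_natCast, h5] at h6
    have h4 := Nat.le_of_dvd (by omega) hd
    have h5 : q * q ≤ q ^ n' := by
      rw [← sq]; exact Nat.pow_le_pow_right (by omega) (by omega)
    have h6 : 3 * q ≤ q * q := Nat.mul_le_mul_right q hq3
    omega
  have hK : (K : ℤ) = (q : ℤ) ^ 2 * ((q : ℤ) ^ n' - 1) + η * q := by
    rw [hzero, mul_zero, neg_zero] at hkey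
    rcases mul_eq_zero.1 hkey with h | h
    · exact absurd h (by rw [hN₀z]; positivity)
    · linarith
  have hqodd : Odd (q : ℤ) := by exact_mod_cast Nat.odd_iff.2 (odd_card h2)
  have hodd : Odd (K : ℤ) := by
    rw [hK]
    refine Even.add_odd ((hqodd.pow.sub_odd odd_one).mul_left _) ?_
    refine Odd.mul ?_ hqodd
    rcases hη with rfl | rfl <;> decide
  rw [Int.odd_coe_nat] at hodd
  exact (Nat.not_even_iff_odd.2 hodd) hKeven

/-- The element of `PSp_{2n}(q)`. -/
theorem exists_psp (h2 : (2 : F) ≠ 0) {n : ℕ} (hn : 2 ≤ n) (p : ℕ) (hp : p.Prime) [CharP F p]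
    {a : ℕ} (hF : Fintype.card F = p ^ a) :
    ∃ z : Cfsg.PSp n F, orderOf z = (Fintype.card F ^ (n - 1) + 1) * p := by
  classical
  obtain ⟨L, _, _, _, D, hfr, hbar⟩ :=
    FormRep.Symplectic.exists_fieldDat p hp hF h2 (n - 1) (by omega)
  have : Fintype L := Fintype.ofFinite L
  set q := Fintype.card F with hq
  have hcard : Fintype.card L = q ^ (2 * (n - 1)) := by
    rw [Module.card_eq_pow_finrank (K := F), hfr]
  obtain ⟨v, hv⟩ := IsCyclic.exists_generator (α := Lˣ)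
  have hdvd : q ^ (n - 1) + 1 ∣ orderOf v := by
    rw [orderOf_eq_card_of_forall_mem_zpowers hv, Nat.card_units, Nat.card_eq_fintype_card, hcard,
      mul_comm, pow_mul]
    exact ⟨q ^ (n - 1) - 1, by rw [← Nat.sq_sub_sq, one_pow]⟩
  obtain ⟨x, hx⟩ := FormRep.exists_order_of_dvd v (orderOf_pos v) hdvd
  have hxo : orderOf (x : L) = q ^ (n - 1) + 1 := by rw [orderOf_units, hx]
  obtain ⟨g, E, -, -, -, -, -, hg⟩ := FormRep.Symplectic.exists_block (n := n) D (x : L)
    (by rw [hbar, ← pow_succ, ← hxo, pow_orderOf_eq_one]) p hp h2 (c := 1) le_rfl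
    (by rw [hfr, Nat.sub_self, pow_zero]; omega)
  refine ⟨FormRep.Model.proj g, ?_⟩
  rw [hg, hxo, pow_one, Nat.Coprime.lcm_eq_mul]
  refine Nat.coprime_comm.1 ((hp.coprime_iff_not_dvd).2 fun hd => ?_)
  have h3 : p ∣ q ^ (n - 1) := by
    refine dvd_pow ?_ (by omega)
    rw [hF]
    refine dvd_pow_self p fun h => ?_
    rw [h, pow_zero] at hF
    have := Fintype.one_lt_card (α := F)
    omega
  exact hp.not_dvd_one ((Nat.dvd_add_right h3).1 hd)

/-- The spectra of `B_n(q)` and `C_n(q)` differ. -/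
theorem spectra_ne (hodd : Odd (Fintype.card F)) (n : ℕ) (hn : 3 ≤ n) :
    Set.range (orderOf : Cfsg.POmega F (Cfsg.quadFormOdd n F) → ℕ) ≠
      Set.range (orderOf : Cfsg.PSp n F → ℕ) := by
  classical
  obtain ⟨p, hp⟩ := CharP.exists F
  have hpp : p.Prime := CharP.char_is_prime F p
  obtain ⟨a, -, ha⟩ := FiniteField.card F p
  have h2 : (2 : F) ≠ 0 := by
    intro h
    have h' : ((2 : ℕ) : F) = 0 := by exact_mod_cast h
    rw [CharP.cast_eq_zero_iff F p] at h'
    have := (Nat.prime_dvd_prime_iff_eq hpp Nat.prime_two).1 h'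
    rw [ha, this, Nat.odd_pow_iff a.ne_zero] at hodd
    exact absurd hodd (by decide)
  obtain ⟨z, hz⟩ := exists_psp h2 (n := n) (by omega) p hpp ha
  intro heq
  obtain ⟨y, hy⟩ : orderOf z ∈ Set.range (orderOf : Cfsg.POmega F (Cfsg.quadFormOdd n F) → ℕ) :=
    heq ▸ ⟨z, rfl⟩
  obtain ⟨x, rfl⟩ := QuotientGroup.mk'_surjective _ y
  have hd : orderOf (QuotientGroup.mk' (Subgroup.center (Cfsg.Omega F (Cfsg.quadFormOdd n F))) x) ∣ orderOf x := orderOf_map_dvd _ x
  rw [hy] at hd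
  obtain ⟨x', hx'⟩ := FormRep.exists_order_of_dvd x (orderOf_pos x) hd
  exact orderOf_ne h2 hn p hpp a.2 ha x'.1 x'.2 (by rw [Subgroup.orderOf_coe, hx', hz])

end CfsgLib.OddOrtho
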